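import Cfsg.Agent.Lib.SuzType52.Centraliser
import Cfsg.Agent.Lib.LargeExtra.TwoConjugate

/-!
# Suzuki type: exactly two classes of involutions

Owner: helper52.
-/

set_option autoImplicit false

namespace Cfsg.Agent.Lib.SuzType52

open Cfsg.Agent.Lib.LargeExtraspecial.Basic
open Cfsg.Agent.Lib.LargeExtra.TwoConjugate

variable {G : Type*} [Group G] [Finite G] {z : G} {Q : Subgroup G} {co : G → ℕ} {ac : G → ℕ → ℕ}

namespace Frame

variable (h : Frame z Q co ac)
include h

/-- A Sylow `2`-subgroup of `C(z)` is one of `G`, so every involution is conjugate into `C(z)`. -/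
theorem exists_conj_commute {x : G} (hx : orderOf x = 2) : ∃ g : G, Commute (g * x * g⁻¹) z := by
  have : Fact (Nat.Prime 2) := ⟨Nat.prime_two⟩
  set C := Subgroup.centralizer ({z} : Set G) with hC
  obtain ⟨S⟩ : Nonempty (Sylow 2 C) := inferInstance
  set T₀ := (S : Subgroup C).map C.subtype with hT₀
  have hT₀C : T₀ ≤ C := Subgroup.map_subtype_le _
  have hT₀p : IsPGroup 2 T₀ := S.2.map _
  obtain ⟨T, hT⟩ := hT₀p.exists_le_sylow
  have hQC : Q ≤ C := fun q hq => Subgroup.mem_centralizer_singleton_iff.2 (h.es.comm q hq)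
  have hcomm : ∀ c ∈ C, Commute c z := fun c hc => Subgroup.mem_centralizer_singleton_iff.1 hc
  have hQT : Q ≤ T₀ := by
    have hn : (Q.subgroupOf C).Normal := ⟨fun q hq c => h.norm c.1 (hcomm c.1 c.2) q.1 hq⟩
    have hQp : IsPGroup 2 Q := IsPGroup.of_card (n := 7) (by rw [h.card]; norm_num)
    have hp : IsPGroup 2 (Q.subgroupOf C) := hQp.of_equiv (Subgroup.subgroupOfEquivOfLe hQC).symm
    intro q hq
    exact ⟨⟨q, hQC hq⟩, hp.le_sylow_of_normal S hq, rfl⟩
  have hTC : (T : Subgroup G) ≤ C := by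
    have : Group.IsNilpotent (T : Subgroup G) := T.2.isNilpotent
    by_contra hne
    have hlt : T₀.subgroupOf (T : Subgroup G) < ⊤ := by
      refine lt_top_iff_ne_top.2 fun e => hne ?_
      rw [Subgroup.subgroupOf_eq_top] at e
      exact e.trans hT₀C
    obtain ⟨y, hyN, hy⟩ :=
      SetLike.exists_of_lt (normalizerCondition_of_isNilpotent (T₀.subgroupOf (T : Subgroup G)) hlt)
    have hyinv : ∀ a ∈ T₀, (y : G)⁻¹ * a * (y : G) ∈ T₀ := fun a ha => by
      have := (Subgroup.mem_normalizer_iff.1 (inv_mem hyN) ⟨a, hT ha⟩).1 ha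
      rw [inv_inv, Subgroup.mem_subgroupOf] at this
      simpa only [Subgroup.coe_mul, Subgroup.coe_inv] using this
    set w := (y : G) * z * (y : G)⁻¹ with hw
    have hwc : ∀ q ∈ Q, Commute w q := fun q hq => by
      have h1 : Commute z ((y : G)⁻¹ * q * (y : G)) := (hcomm _ (hT₀C (hyinv q (hQT hq)))).symm
      have h2 := h1.map (MulAut.conj (y : G))
      simpa [hw, mul_assoc] using h2
    have hwz : w = z := (h.cent w hwc).resolve_left fun e => h.es.ne (by simpa [hw] using e)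
    have hyC : (y : G) ∈ C := Subgroup.mem_centralizer_singleton_iff.2 (mul_inv_eq_iff_eq_mul.1 hwz)
    have hle : (S : Subgroup C) ≤ ((T : Subgroup G) ⊓ C).subgroupOf C := fun a ha =>
      ⟨hT ⟨a, ha, rfl⟩, a.2⟩
    have hp : IsPGroup 2 (((T : Subgroup G) ⊓ C).subgroupOf C) :=
      (T.2.to_le inf_le_left).comap_of_injective _ C.subtype_injective
    have he := S.3 hp hle
    refine hy ?_
    exact ⟨⟨y, hyC⟩, he ▸ (⟨y.2, hyC⟩ : (⟨y, hyC⟩ : C) ∈ ((T : Subgroup G) ⊓ C).subgroupOf C), rfl⟩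
  have hp : IsPGroup 2 (Subgroup.zpowers x) :=
    IsPGroup.of_card (n := 1) (by rw [Nat.card_zpowers, hx, pow_one])
  obtain ⟨T', hT'⟩ := hp.exists_le_sylow
  obtain ⟨g, hg⟩ := MulAction.exists_smul_eq G T' T
  refine ⟨g, hcomm _ (hTC ?_)⟩
  rw [← hg, Sylow.coe_subgroup_smul]
  exact ⟨x, hT' (Subgroup.mem_zpowers x), rfl⟩

/-- Membership in the conjugates of `Q` is symmetric. -/
theorem inv_mem_of {g : G} (h1 : g * z * g⁻¹ ∈ Q) (h2 : g * z * g⁻¹ ≠ z) : g⁻¹ * z * g ∈ Q := by
  have s : Setting Q z g := ⟨h.es, h.cent, h.norm, h1, h2, by rw [h.card]; norm_num⟩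
  exact mem_conj.1 (z_mem s)

/-- A conjugate of `z` in `Q` other than `z` gives the four-group and an element interchanging it. -/
theorem exists_duo (hw : ∃ g : G, g * z * g⁻¹ ∈ Q ∧ g * z * g⁻¹ ≠ z) :
    ∃ x n, Duo z Q co ac x n := by
  obtain ⟨g, hg, hne⟩ := hw
  set w := g * z * g⁻¹ with hwdef
  have hw1 : w * w = 1 := by
    calc w * w = g * (z * z) * g⁻¹ := by rw [hwdef]; group
      _ = 1 := by rw [h.es.sq]; group
  have h0 : co w ≠ 0 := fun e => by
    rcases h.co_zero w hg e with e | e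
    · exact h.es.ne (by simpa [hwdef] using e)
    · exact hne e
  have hs : qn (co w) = false := by
    have e := h.sq w hg
    rw [hw1] at e
    cases h3 : qn (co w) with
    | false => rfl
    | true => rw [h3] at e; exact absurd e.symm h.es.ne
  obtain ⟨c, hc, hck⟩ := h.exists_to_one (h.co_lt w hg) h0 hs
  have hx1 : c * w * c⁻¹ = c * g * z * (c * g)⁻¹ := by rw [hwdef]; group
  have hxQ : c * g * z * (c * g)⁻¹ ∈ Q := hx1 ▸ h.norm c hc w hg
  have hxc : co (c * g * z * (c * g)⁻¹) = 1 := by rw [← hx1, h.conj c hc w hg, hck]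
  have hxz : c * g * z * (c * g)⁻¹ ≠ z := fun e => by
    rw [e, h.co_z] at hxc
    omega
  have s : Setting Q z (c * g) := ⟨h.es, h.cent, h.norm, hxQ, hxz, by rw [h.card]; norm_num⟩
  obtain ⟨n, h1, h2⟩ := exists_swap s
  exact ⟨_, n, h, hxQ, hxc, h1, h2⟩

end Frame

namespace Duo

variable {x n : G} (d : Duo z Q co ac x n)
include d

/-- The involution with parameters `16, 32` is not conjugate to `z`. -/
theorem not_isConj {b : G} (hb : Form Q co ac n z b 16 32) (hb2 : b * b = 1) (hbQ : b ∉ Q) :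
    ¬ IsConj z b := by
  intro hcon
  obtain ⟨g, hg⟩ := isConj_iff.1 hcon
  have h16 : (16 : ℕ) ∈ v4 := by decide
  obtain ⟨hbz, hbk⟩ := d.form_commute hb
  have hgz : g * z * g⁻¹ ≠ z := fun e => hbQ (by rw [← hg, e]; exact d.fr.es.mem)
  set w := g⁻¹ * z * g with hw
  have hwz : Commute w z := by
    have := hbz.symm.map (MulAut.conj g⁻¹).toMonoidHom
    simpa [← hg, hw, mul_assoc] using this
  have hw2 : w * w = 1 := by
    calc w * w = g⁻¹ * (z * z) * g := by rw [hw]; group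
      _ = 1 := by rw [d.fr.es.sq]; group
  have hwQ : w ∉ Q := by
    intro hm
    refine hbQ (hg ▸ ?_)
    have := d.fr.inv_mem_of (g := g⁻¹) (by rwa [inv_inv]) (fun e => hgz ?_)
    · rwa [inv_inv] at this
    · rw [inv_inv] at e
      calc g * z * g⁻¹ = g * (g⁻¹ * z * g) * g⁻¹ := by rw [e]
        _ = z := by group
  obtain ⟨c, hc, hcase⟩ := d.classify hwz hw2 hwQ
  rcases hcase with hB | hF
  · set k := g * (c⁻¹ * n) with hk
    have hk1 : k⁻¹ * z * k ∈ Q := by
      have hm := hB.1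
      have e : c⁻¹ * (c * w * c⁻¹) * c = w := by group
      convert hm using 1
      rw [hk, hw]; group
    have hk2 : k⁻¹ * b * k = x := by
      calc k⁻¹ * b * k = n⁻¹ * (c * z * c⁻¹) * n := by rw [hk, ← hg]; group
        _ = x := by rw [mul_inv_eq_iff_eq_mul.2 hc.eq, d.nx']
    have hkz : k⁻¹ * z * k ≠ z := by
      intro e
      have hcom : Commute k z := by
        show k * z = z * k
        calc k * z = k * (k⁻¹ * z * k) := by rw [e]
          _ = z * k := by group
      refine hbQ ?_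
      have := d.fr.norm k hcom x d.xQ
      rwa [← hk2, show k * (k⁻¹ * b * k) * k⁻¹ = b by group] at this
    have hy := d.fr.inv_mem_of (g := k⁻¹) (by rwa [inv_inv]) (by rwa [inv_inv])
    rw [inv_inv] at hy
    have hy0 : co (k * z * k⁻¹) ≠ 0 := by
      intro e
      rcases d.fr.co_zero _ hy e with e | e
      · exact d.fr.es.ne (by simpa using e)
      · refine hkz ?_
        calc k⁻¹ * z * k = k⁻¹ * (k * z * k⁻¹) * k := by rw [e]
          _ = z := by group
    have hys : qn (co (k * z * k⁻¹)) = false := by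
      have e := d.fr.sq _ hy
      rw [show k * z * k⁻¹ * (k * z * k⁻¹) = k * (z * z) * k⁻¹ by group, d.fr.es.sq, mul_one,
        mul_inv_cancel] at e
      cases h3 : qn (co (k * z * k⁻¹)) with
      | false => rfl
      | true => rw [h3] at e; exact absurd e.symm d.fr.es.ne
    obtain ⟨c₂, hc₂, hc₂x⟩ := d.exists_to_x hy hy0 hys
    have hb' : InB Q n z (c₂ * b * c₂⁻¹) := by
      refine ⟨?_, (hc₂.mul_left hbz).mul_left hc₂.inv_left⟩
      have hcz : Commute (n⁻¹ * (c₂ * k)) z := by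
        refine mul_inv_eq_iff_eq_mul.1 ?_
        calc n⁻¹ * (c₂ * k) * z * (n⁻¹ * (c₂ * k))⁻¹ = n⁻¹ * (c₂ * (k * z * k⁻¹) * c₂⁻¹) * n := by group
          _ = z := by rw [hc₂x, d.nz']
      have := d.fr.norm _ hcz x d.xQ
      rw [← hk2] at this
      convert this using 1
      group
    obtain ⟨a, ha, hact⟩ := d.exists_act hb'
    have hq : qn a = false := by
      refine d.pw_x_inj ((d.sq_act a ha _ hb' hact).symm.trans ?_)
      calc c₂ * b * c₂⁻¹ * (c₂ * b * c₂⁻¹) = c₂ * (b * b) * c₂⁻¹ := by group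
        _ = pw x false := by rw [hb2, mul_one, mul_inv_cancel]; rfl
    have h2 := d.fr.ac_lt hc₂ (show 2 < 64 by norm_num)
    have e1 := eich_sing a ha hq _ h2
    rw [← hact _ h2, d.fr.ac_conj hbz hc₂ h2, d.fr.ac_inv hc₂ (by norm_num), hbk 2 (by norm_num),
      ← d.fr.ac_xor hc₂ (eich_lt h16 (by norm_num)) (by norm_num),
      d.fr.ac_qn hc₂ (xor_lt (eich_lt h16 (by norm_num)) (by norm_num)), eich_inv16] at e1
    cases e1
  · obtain ⟨r, hr, hrb⟩ := d.form_unique hF hb
    have hc' : Commute (r * c) z := (d.A_comm hr).2.mul_left hc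
    have hwb : r * c * w * (r * c)⁻¹ = b := by
      rw [show r * c * w * (r * c)⁻¹ = r * (c * w * c⁻¹) * r⁻¹ by group, hrb]
    set k := g * (r * c)⁻¹ with hk
    have hk1 : k * z * k⁻¹ = b := by
      calc k * z * k⁻¹ = g * ((r * c)⁻¹ * z * (r * c)) * g⁻¹ := by rw [hk]; group
        _ = b := by
          rw [← hg, show (r * c)⁻¹ * z * (r * c) = z from by
            rw [mul_assoc, ← hc'.eq, inv_mul_cancel_left]]
    have hk2 : k * b * k⁻¹ = z := by
      calc k * b * k⁻¹ = g * ((r * c)⁻¹ * b * (r * c)) * g⁻¹ := by rw [hk]; group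
        _ = g * w * g⁻¹ := by rw [← hwb]; group
        _ = z := by rw [hw]; group
    obtain ⟨g₁, g₂, g₃, h1, h2, h3, hz⟩ := d.z_triple hb
    have hkc : ∀ {e : G}, Commute e z ∧ Commute e b →
        Commute (k * e * k⁻¹) z ∧ Commute (k * e * k⁻¹) b := fun he => by
      constructor
      · simpa [hk2] using he.2.map (MulAut.conj k).toMonoidHom
      · simpa [hk1] using he.1.map (MulAut.conj k).toMonoidHom
    obtain ⟨i, hi, a, ha, e1⟩ := d.ac_of_commute hb (hkc h1).1 (hkc h1).2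
    obtain ⟨j, hj, a', ha', e2⟩ := d.ac_of_commute hb (hkc h2).1 (hkc h2).2
    obtain ⟨l, hl, a'', ha'', e3⟩ := d.ac_of_commute hb (hkc h3).1 (hkc h3).2
    have hm := d.fr.triple_trivial (hkc h1).1 (hkc h2).1 (hkc h3).1 hi hj hl ha ha' ha'' e1 e2 e3
    change com (com (k * g₁ * k⁻¹) (k * g₂ * k⁻¹)) (k * g₃ * k⁻¹) ∈ Q at hm
    rw [com_conj, com_conj, hz, hk1] at hm
    exact hbQ hm

/-- Two classes of involutions. -/
theorem two_classes : ∃ a b : G, orderOf a = 2 ∧ orderOf b = 2 ∧ ¬ IsConj a b ∧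
    ∀ t : G, orderOf t = 2 → IsConj t a ∨ IsConj t b := by
  obtain ⟨b, hb, hb2, hbQ⟩ := d.exists_form
  have : Fact (Nat.Prime 2) := ⟨Nat.prime_two⟩
  refine ⟨z, b, d.fr.ord, orderOf_eq_prime (by rw [pow_two, hb2]) (fun e => hbQ (e ▸ one_mem Q)),
    d.not_isConj hb hb2 hbQ, fun t ht => ?_⟩
  obtain ⟨g, hg⟩ := d.fr.exists_conj_commute ht
  have hto : orderOf (g * t * g⁻¹) = 2 := by
    rw [← ht]
    exact orderOf_injective (MulAut.conj g).toMonoidHom (MulAut.conj g).injective t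
  have htc : IsConj t (g * t * g⁻¹) := isConj_iff.2 ⟨g, rfl⟩
  by_cases hQ : g * t * g⁻¹ ∈ Q
  · exact Or.inl (htc.trans (d.isConj_Q hQ hto).symm)
  · obtain ⟨c, -, hcase⟩ := d.classify hg (by rw [← pow_two, ← hto, pow_orderOf_eq_one]) hQ
    have hcc : IsConj t (c * (g * t * g⁻¹) * c⁻¹) := htc.trans (isConj_iff.2 ⟨c, rfl⟩)
    have hco : orderOf (c * (g * t * g⁻¹) * c⁻¹) = 2 := by
      rw [← hto]
      exact orderOf_injective (MulAut.conj c).toMonoidHom (MulAut.conj c).injective _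
    rcases hcase with hB | hF
    · exact Or.inl (hcc.trans (d.isConj_B hB hco).symm)
    · obtain ⟨r, -, hr⟩ := d.form_unique hF hb
      exact Or.inr (hcc.trans (isConj_iff.2 ⟨r, hr⟩))

end Duo

end Cfsg.Agent.Lib.SuzType52
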