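import Cfsg.Agent.Lib.SuzType52.Frame
import Mathlib.GroupTheory.Perm.Cycle.Type

/-!
# Suzuki type: an element acting as an involution is conjugate to a transvection of the point

Owner: helper52.
-/

set_option autoImplicit false

namespace Cfsg.Agent.Lib.SuzType52

theorem xor_mask (j k : ℕ) : (j ^^^ k) &&& 60 = (j &&& 60) ^^^ (k &&& 60) :=
  Nat.and_xor_distrib_right

theorem b1_xor {j k : ℕ} (hj : j < 64) (hk : k < 64) (h1 : b1 j = false) (h2 : b1 k = false) :
    b1 (j ^^^ k) = false := by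
  have key : (List.range 64).all (fun j => (List.range 64).all fun k =>
      b1 j || b1 k || !(b1 (j ^^^ k))) = true := by decide +kernel
  have := List.all_eq_true.1 (List.all_eq_true.1 key j (List.mem_range.2 hj)) k (List.mem_range.2 hk)
  simpa [h1, h2] using this

theorem bn_mask2 {j k : ℕ} (hj : j < 64) (hk : k < 64) (h1 : b1 j = false) (h2 : b1 k = false) :
    bn (j &&& 60) (k &&& 60) = bn j k := by
  rw [bn, bn, ← xor_mask, qn_mask (xor_lt hj hk) (b1_xor hj hk h1 h2), qn_mask hj h1, qn_mask hk h2]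

theorem lin_mask {g1 g2 g4 g8 g16 g32 a : ℕ} (ha : a ∈ v4) :
    lin 1 2 (g4 &&& 60) (g8 &&& 60) (g16 &&& 60) (g32 &&& 60) a =
      lin g1 g2 g4 g8 g16 g32 a &&& 60 := by
  have h12 : ∀ a ∈ v4, Nat.beq (a &&& 1) 1 = false ∧ Nat.beq (a &&& 2) 2 = false := by decide
  have hc : ∀ (b : Bool) (g : ℕ), (bif b then g else 0) &&& 60 = bif b then g &&& 60 else 0 :=
    fun b g => by cases b <;> simp
  simp only [lin, xor_mask, hc, (h12 a ha).1, (h12 a ha).2, cond_false, Nat.zero_xor]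

/-- The map induced on the small space. -/
theorem Iso6.induced {f : ℕ → ℕ} (hf : Iso6 f) {a : ℕ} (ha : a ∈ v4) :
    lin 1 2 (f 4 &&& 60) (f 8 &&& 60) (f 16 &&& 60) (f 32 &&& 60) a = f a &&& 60 := by
  rw [lin_mask (g1 := f 1) (g2 := f 2) ha, hf.lin_eq (lt_of_mem_v4 a ha).1]

/-- A map fixing the point and the small space modulo the point is a transvection. -/
theorem Iso6.eich_of_basis {f : ℕ → ℕ} (hf : Iso6 f) (h1 : f 1 = 1)
    (hb : ∀ j ∈ [4, 8, 16, 32], f j &&& 60 = j) : ∃ a ∈ v4, ∀ k < 64, f k = eich a k := by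
  refine hf.eich_of_radical h1 fun k hk hb1 => ?_
  have hm : ∀ a ∈ v4, f a &&& 60 = a := fun a ha => by
    rw [← hf.induced ha, hb 4 (by simp), hb 8 (by simp), hb 16 (by simp), hb 32 (by simp)]
    exact lin_self (lt_of_mem_v4 a ha).1
  have hmk := mem_v4 hk
  have hfb : b1 (f k) = false := (hf.b1_eq' h1 hk).trans hb1
  have e : f k &&& 60 = k &&& 60 := by
    rcases mask_cases hk hb1 with e | e
    · conv_lhs => rw [e]
      exact hm _ hmk
    · conv_lhs => rw [e, hf.add _ (lt_of_mem_v4 _ hmk).1 _ (by norm_num), h1, xor_mask, hm _ hmk]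
      exact Nat.xor_zero _
  rcases mask_cases (hf.lt k hk) hfb with g | g <;> rcases mask_cases hk hb1 with g' | g' <;>
    rw [e] at g
  · exact Or.inl (g.trans g'.symm)
  · refine Or.inr (g.trans ?_)
    conv_rhs => rw [g', Nat.xor_assoc, Nat.xor_self, Nat.xor_zero]
  · refine Or.inr (g.trans ?_)
    conv_rhs => rw [g']
  · exact Or.inl (g.trans g'.symm)

variable {G : Type*} [Group G]

namespace Frame

variable {z : G} {Q : Subgroup G} {co : G → ℕ} {ac : G → ℕ → ℕ} (h : Frame z Q co ac)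
include h

theorem exists_pr {p : ℕ × ℕ} (hp : p ∈ pairs4) :
    ∃ c, Commute c z ∧ ∀ k < 64, ac c k = pr p k := by
  obtain ⟨h1, h2⟩ := mem_pairs4 hp
  exact h.exists_pair p.1 (ns4_spec _ h1).1 p.2 (ns4_spec _ h2).1 (ns4_spec _ h1).2.1
    (ns4_spec _ h2).2.1

theorem exists_eich {a : ℕ} (ha : a ∈ v4) : ∃ c, Commute c z ∧ ∀ k < 64, ac c k = eich a k := by
  have key : ∀ a ∈ ns4, ∃ c, Commute c z ∧ ∀ k < 64, ac c k = eich a k := fun a ha => by
    obtain ⟨h1, h2, h3⟩ := eich_pr a ha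
    obtain ⟨c, hc, hk⟩ := h.exists_pair a (ns4_spec a ha).1 (a ^^^ 1) h1 (ns4_spec a ha).2.1 h2
    exact ⟨c, hc, fun k hk' => (hk k hk').trans (h3 k hk').symm⟩
  cases hq : qn a with
  | true => exact key a (mem_ns4 a ha hq)
  | false =>
    rcases sing_split a ha hq with rfl | ⟨b, hb, d, hd, rfl⟩
    · exact ⟨1, Commute.one_left z, fun k hk => by rw [h.ac_Q (one_mem Q) hk, eich_zero hk]⟩
    · obtain ⟨c, hc, hck⟩ := key b hb
      obtain ⟨e, he, hek⟩ := key d hd
      refine ⟨c * e, hc.mul_left he, fun k hk => ?_⟩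
      have hd4 := (ns4_spec d hd).2.2
      rw [h.ac_mul hc he hk, hek k hk, hck _ (eich_lt hd4 hk), eich_mul (ns4_spec b hb).2.2 hd4 hk]

theorem exists_to_one {k : ℕ} (hk : k < 64) (h0 : k ≠ 0) (hq : qn k = false) :
    ∃ c, Commute c z ∧ ac c k = 1 := by
  obtain ⟨v, hv, w, hw, hqv, hqw, e⟩ := sing_trans k hk h0 hq
  obtain ⟨c, hc, hck⟩ := h.exists_pair v hv w hw hqv hqw
  exact ⟨c, hc, (hck k hk).trans e⟩

theorem ac_conj {c d : G} (hc : Commute c z) (hd : Commute d z) {k : ℕ} (hk : k < 64) :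
    ac (d * c * d⁻¹) k = ac d (ac c (ac d⁻¹ k)) := by
  rw [h.ac_mul (hd.mul_left hc) hd.inv_left hk, h.ac_mul hd hc (h.ac_lt hd.inv_left hk)]

/-- An element central at a singular point is conjugate to a transvection of the point. -/
theorem eich_of_point {c : G} (hc : Commute c z) {s : ℕ} (hs : s < 64) (hs0 : s ≠ 0)
    (hsq : qn s = false) (htr : ∀ k < 64, bn k s = false → ac c k = k ∨ ac c k = k ^^^ s) :
    ∃ d, Commute d z ∧ ∃ a ∈ v4, ∀ k < 64, ac (d * c * d⁻¹) k = eich a k := by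
  obtain ⟨d, hd, hds⟩ := h.exists_to_one hs hs0 hsq
  have hcs : ac c s = s := by
    have hss : bn s s = false := (by decide +kernel : ∀ j < 64, bn j j = false) s hs
    rcases htr s hs hss with e | e
    · exact e
    · rw [Nat.xor_self] at e
      exfalso
      refine hs0 ?_
      rw [← h.ac_inv hc hs, e, (h.iso hc.inv_left).zero]
  have hd1 : ac d⁻¹ 1 = s := by rw [← hds, h.ac_inv hd hs]
  have hg : Commute (d * c * d⁻¹) z := (hd.mul_left hc).mul_left hd.inv_left
  refine ⟨d, hd, (h.iso hg).eich_of_radical ?_ fun k hk hb => ?_⟩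
  · rw [h.ac_conj hc hd (by norm_num), hd1, hcs, hds]
  · have hk' := h.ac_lt hd.inv_left hk
    have hb' : bn (ac d⁻¹ k) s = false := by
      rw [← hd1, h.ac_bn hd.inv_left hk (by norm_num), b1_eq hk, hb]
    rw [h.ac_conj hc hd hk]
    rcases htr _ hk' hb' with e | e
    · exact Or.inl (by rw [e, h.ac_inv' hd hk])
    · refine Or.inr ?_
      rw [e, h.ac_xor hd hk' hs, h.ac_inv' hd hk, hds]

theorem exists_fixed {c : G} (hc : Commute c z) (hinv : ∀ k < 64, ac c (ac c k) = k) :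
    ∃ s < 64, s ≠ 0 ∧ qn s = false ∧ ac c s = s := by
  have : Fact (Nat.Prime 2) := ⟨Nat.prime_two⟩
  have hsub : ∀ k : ℕ, k ∈ ((List.range 64).filter fun k => !(qn k) && !(Nat.beq k 0)).toFinset ↔
      k < 64 ∧ k ≠ 0 ∧ qn k = false := fun k => by
    have hb : Nat.beq k 0 = false ↔ k ≠ 0 := by cases k <;> simp [Nat.beq]
    simp only [List.mem_toFinset, List.mem_filter, List.mem_range, Bool.and_eq_true,
      Bool.not_eq_true', hb, and_comm (a := qn k = false)]
  set X := ((List.range 64).filter fun k => !(qn k) && !(Nat.beq k 0)).toFinset with hX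
  have hcl : ∀ k : X, ac c k.1 ∈ X := fun k => by
    obtain ⟨h1, h2, h3⟩ := (hsub k.1).1 k.2
    refine (hsub _).2 ⟨h.ac_lt hc h1, fun e => h2 ?_, (h.ac_qn hc h1).trans h3⟩
    rw [← hinv k.1 h1, e, (h.iso hc).zero]
  let σ : Equiv.Perm X :=
    { toFun := fun k => ⟨ac c k.1, hcl k⟩
      invFun := fun k => ⟨ac c k.1, hcl k⟩
      left_inv := fun k => Subtype.ext (hinv k.1 ((hsub k.1).1 k.2).1)
      right_inv := fun k => Subtype.ext (hinv k.1 ((hsub k.1).1 k.2).1) }
  have hcard : Fintype.card X = 27 := by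
    rw [Fintype.card_coe, hX, List.toFinset_card_of_nodup (List.nodup_range.filter _)]
    exact card_sing
  obtain ⟨⟨s, hs⟩, e⟩ := Equiv.Perm.exists_fixed_point_of_prime (p := 2) (n := 1)
    (by rw [hcard]; decide) (σ := σ) (by
      rw [pow_one, pow_two]
      exact Equiv.ext fun k => Subtype.ext (hinv k.1 ((hsub k.1).1 k.2).1))
  exact ⟨s, ((hsub s).1 hs).1, ((hsub s).1 hs).2.1, ((hsub s).1 hs).2.2, congrArg Subtype.val e⟩

/-- An element outside `Q` acting as an involution is conjugate to a transvection of the point. -/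
theorem exists_conj_eich {c : G} (hc : Commute c z) (hinv : ∀ k < 64, ac c (ac c k) = k)
    (hcQ : c ∉ Q) : ∃ d, Commute d z ∧ ∃ a ∈ v4, a ≠ 0 ∧ ∀ k < 64, ac (d * c * d⁻¹) k = eich a k := by
  suffices key : ∃ d, Commute d z ∧ ∃ a ∈ v4, ∀ k < 64, ac (d * c * d⁻¹) k = eich a k by
    obtain ⟨d, hd, a, ha, hk⟩ := key
    refine ⟨d, hd, a, ha, fun a0 => hcQ ?_, hk⟩
    have hm := h.faithful _ ((hd.mul_left hc).mul_left hd.inv_left)
      fun k hk' => by rw [hk k hk', a0, eich_zero hk']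
    have := h.norm d⁻¹ hd.inv_left _ hm
    simpa [mul_assoc] using this
  obtain ⟨s, hs, hs0, hsq, hcs⟩ := h.exists_fixed hc hinv
  obtain ⟨d₀, hd₀, hds⟩ := h.exists_to_one hs hs0 hsq
  set t := d₀ * c * d₀⁻¹ with ht
  have htc : Commute t z := (hd₀.mul_left hc).mul_left hd₀.inv_left
  suffices key : ∃ d, Commute d z ∧ ∃ a ∈ v4, ∀ k < 64, ac (d * t * d⁻¹) k = eich a k by
    obtain ⟨d, hd, a, ha, hk⟩ := key
    refine ⟨d * d₀, hd.mul_left hd₀, a, ha, fun k hk' => ?_⟩
    rw [← hk k hk', ht]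
    congr 1
    group
  have hf := h.iso htc
  have ht1 : ac t 1 = 1 := by
    rw [ht, h.ac_conj hc hd₀ (by norm_num), ← hds, h.ac_inv hd₀ hs, hcs]
  have htinv : ∀ k < 64, ac t (ac t k) = k := fun k hk => by
    have h1 := h.ac_lt hd₀.inv_left hk
    rw [ht, h.ac_conj hc hd₀ hk, h.ac_conj hc hd₀ (h.ac_lt hd₀ (h.ac_lt hc h1)),
      h.ac_inv hd₀ (h.ac_lt hc h1), hinv _ h1, h.ac_inv' hd₀ hk]
  have hb : ∀ j ∈ [4, 8, 16, 32], j < 64 ∧ b1 (ac t j) = false ∧ j ∈ v4 := fun j hj => by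
    have hj' : j < 64 ∧ b1 j = false ∧ j ∈ v4 := by revert j; decide
    exact ⟨hj'.1, (hf.b1_eq' ht1 hj'.1).trans hj'.2.1, hj'.2.2⟩
  have q' : ∀ j ∈ [4, 8, 16, 32], qn (ac t j &&& 60) = qn j := fun j hj => by
    rw [qn_mask (hf.lt j (hb j hj).1) (hb j hj).2.1, hf.pres j (hb j hj).1]
  have n' : ∀ i ∈ [4, 8, 16, 32], ∀ j ∈ [4, 8, 16, 32],
      bn (ac t i &&& 60) (ac t j &&& 60) = bn i j := fun i hi j hj => by
    rw [bn_mask2 (hf.lt i (hb i hi).1) (hf.lt j (hb j hj).1) (hb i hi).2.1 (hb j hj).2.1,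
      hf.bn_eq (hb i hi).1 (hb j hj).1]
  have i' : ∀ j ∈ [4, 8, 16, 32], ac t (ac t j &&& 60) &&& 60 = j := fun j hj => by
    have hlt := hf.lt j (hb j hj).1
    have hm := (lt_of_mem_v4 _ (mem_v4 hlt)).1
    have hjm : j &&& 60 = j := (lt_of_mem_v4 j (hb j hj).2.2).2.1
    rcases mask_cases hlt (hb j hj).2.1 with e | e
    · rw [← e, htinv j (hb j hj).1, hjm]
    · have e' := hf.add _ hm 1 (by norm_num)
      rw [← e, htinv j (hb j hj).1, ht1] at e'
      have := congrArg (fun k => k &&& 60) e'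
      simp only [xor_mask, show (1 : ℕ) &&& 60 = 0 from rfl, Nat.xor_zero, hjm] at this
      exact this.symm
  have mem : ∀ j ∈ [4, 8, 16, 32], ac t j &&& 60 ∈ v4 := fun j hj => mem_v4 (hf.lt j (hb j hj).1)
  have key := List.all_eq_true.1 (List.all_eq_true.1 inv4_aux _ (mem 4 (by simp))) _ (mem 8 (by simp))
  rw [q' 4 (by simp), q' 8 (by simp), n' 4 (by simp) 8 (by simp), show qn 4 = false from rfl,
    show qn 8 = false from rfl, show bn 4 8 = true from rfl, Bool.or_eq_true] at key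
  have key := List.all_eq_true.1 (key.resolve_left (by decide)) _ (mem 16 (by simp))
  rw [q' 16 (by simp), n' 4 (by simp) 16 (by simp), n' 8 (by simp) 16 (by simp),
    show qn 16 = true from rfl, show bn 4 16 = false from rfl, show bn 8 16 = false from rfl,
    Bool.or_eq_true] at key
  have key := List.all_eq_true.1 (key.resolve_left (by decide)) _ (mem 32 (by simp))
  rw [q' 32 (by simp), n' 4 (by simp) 32 (by simp), n' 8 (by simp) 32 (by simp),
    n' 16 (by simp) 32 (by simp),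
    show qn 32 = true from rfl, show bn 4 32 = false from rfl, show bn 8 32 = false from rfl,
    show bn 16 32 = true from rfl] at key
  simp only [Bool.not_false, Bool.and_self, Bool.not_true, Bool.false_or, List.all_cons, List.all_nil,
    Bool.and_true, Bool.or_eq_true, List.any_eq_true] at key
  rw [hf.induced (mem 4 (by simp)), hf.induced (mem 8 (by simp)), hf.induced (mem 16 (by simp)),
    hf.induced (mem 32 (by simp)), i' 4 (by simp), i' 8 (by simp), i' 16 (by simp), i' 32 (by simp)] at key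
  simp only [Bool.not_eq_true', Bool.and_eq_false_imp, Bool.and_eq_true] at key
  have beq : ∀ n : ℕ, Nat.beq n n = true := fun n => Nat.beq_refl n
  simp only [beq, Bool.true_eq_false, imp_false, not_true, false_or] at key
  have ind : ∀ {τ : ℕ → ℕ}, (∀ j ∈ [4, 8, 16, 32], ac t j &&& 60 = τ j) → Iso6 τ → τ 1 = 1 →
      (∀ j < 64, τ j &&& 60 = τ (j &&& 60)) → ∀ {τ' : ℕ → ℕ}, Iso6 τ' → τ' 1 = 1 →
      (∀ j < 64, τ' j &&& 60 = τ' (j &&& 60)) → (∀ j < 64, τ' (τ j) = j) →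
      ∃ a ∈ v4, ∀ k < 64, τ' (ac t k) = eich a k := by
    intro τ hτ hi hτ1 hτm τ' hi' hτ'1 hτ'm hcomp
    refine (hi'.comp hf).eich_of_basis (by show τ' (ac t 1) = 1; rw [ht1, hτ'1]) fun j hj => ?_
    show τ' (ac t j) &&& 60 = j
    rw [hτ'm _ (hf.lt j (hb j hj).1), hτ j hj, hcomp j (hb j hj).1]
  have gen : ∀ {τ : ℕ → ℕ}, (Nat.beq (lin 1 2 (ac t 4 &&& 60) (ac t 8 &&& 60) (ac t 16 &&& 60)
      (ac t 32 &&& 60) 4) (τ 4) = true ∧ Nat.beq (lin 1 2 (ac t 4 &&& 60) (ac t 8 &&& 60)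
      (ac t 16 &&& 60) (ac t 32 &&& 60) 8) (τ 8) = true ∧ Nat.beq (lin 1 2 (ac t 4 &&& 60)
      (ac t 8 &&& 60) (ac t 16 &&& 60) (ac t 32 &&& 60) 16) (τ 16) = true ∧ Nat.beq (lin 1 2
      (ac t 4 &&& 60) (ac t 8 &&& 60) (ac t 16 &&& 60) (ac t 32 &&& 60) 32) (τ 32) = true) →
      ∀ j ∈ [4, 8, 16, 32], ac t j &&& 60 = τ j := by
    rintro τ ⟨a, b, c', d⟩ j hj
    rw [← hf.induced (hb j hj).2.2]
    fin_cases hj
    · exact Nat.eq_of_beq_eq_true a
    · exact Nat.eq_of_beq_eq_true b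
    · exact Nat.eq_of_beq_eq_true c'
    · exact Nat.eq_of_beq_eq_true d
  rcases key with (k0 | ⟨p, hp, k0⟩) | ⟨p, hp, k0⟩
  · obtain ⟨a, ha, hk⟩ := hf.eich_of_basis ht1 (gen (τ := id) k0)
    exact ⟨1, Commute.one_left z, a, ha, by simpa using hk⟩
  · exfalso
    obtain ⟨a, ha, hk⟩ := ind (gen k0) (refl_iso hp) (refl_one p hp)
      (fun j hj => (refl_spec hp hj).2.2.2.2) (refl_iso hp) (refl_one p hp)
      (fun j hj => (refl_spec hp hj).2.2.2.2) (fun j hj => (refl_spec hp hj).2.1)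
    obtain ⟨e, he, hek⟩ := h.exists_eich ha
    refine h.not_refl (t * e) (htc.mul_left he) p (ns4_spec p hp).1 (ns4_spec p hp).2.1 fun k hk' => ?_
    rw [h.ac_mul htc he hk', hek k hk']
    have hlt := eich_lt ha hk'
    conv_lhs => rw [← (refl_spec hp (hf.lt _ hlt)).2.1]
    rw [hk _ hlt, eich_self ha hk']
  · obtain ⟨h1, h2⟩ := mem_pairs4 hp
    have hrev : (p.2, p.1) ∈ pairs4 := by
      simp only [pairs4, List.mem_flatMap, List.mem_map]
      exact ⟨_, h2, _, h1, rfl⟩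
    have hpi : ∀ q : ℕ × ℕ, q ∈ pairs4 → Iso6 (pr q) := fun q hq =>
      (refl_iso (mem_pairs4 hq).1).comp (refl_iso (mem_pairs4 hq).2)
    have hcancel : ∀ j < 64, pr p (pr (p.2, p.1) j) = j := fun j hj => by
      show refl p.1 (refl p.2 (refl p.2 (refl p.1 j))) = j
      rw [(refl_spec h2 (refl_spec h1 hj).1).2.1, (refl_spec h1 hj).2.1]
    obtain ⟨a, ha, hk⟩ := ind (gen k0) (hpi p hp) (pr_one hp)
      (fun j hj => (pr_spec hp hj).2.2.2) (hpi _ hrev) (pr_one hrev)
      (fun j hj => (pr_spec hrev hj).2.2.2) (fun j hj => by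
        show refl p.2 (refl p.1 (refl p.1 (refl p.2 j))) = j
        rw [(refl_spec h1 (refl_spec h2 hj).1).2.1, (refl_spec h2 hj).2.1])
    have htp : ∀ k < 64, ac t k = pr p (eich a k) := fun k hk' => by
      rw [← hk k hk', hcancel _ (hf.lt k hk')]
    have key2 := List.all_eq_true.1 (List.all_eq_true.1 rad_point_aux a ha) p hp
    rw [Bool.or_eq_true] at key2
    have hall : ((List.range 64).all fun k => Nat.beq (pr p (eich a (pr p (eich a k)))) k) = true :=
      List.all_eq_true.2 fun k hk' => by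
        have hk' := List.mem_range.1 hk'
        rw [← htp k hk', ← htp _ (hf.lt k hk'), htinv k hk', Nat.beq_refl]
    rw [hall] at key2
    obtain ⟨s', hs', hS⟩ := List.any_eq_true.1 (key2.resolve_left (by decide))
    simp only [Bool.and_eq_true, Bool.not_eq_true'] at hS
    obtain ⟨⟨hs0', hsq'⟩, hall'⟩ := hS
    refine h.eich_of_point htc (List.mem_range.1 hs') (Nat.ne_of_beq_eq_false hs0') hsq' fun k hk' hb' => ?_
    have := List.all_eq_true.1 hall' k (List.mem_range.2 hk')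
    rw [hb', Bool.false_or, Bool.or_eq_true, ← htp k hk'] at this
    exact this.imp Nat.eq_of_beq_eq_true Nat.eq_of_beq_eq_true

end Frame

end Cfsg.Agent.Lib.SuzType52
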