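import Cfsg.Agent.Lib.SuzType52.Main
import Cfsg.Agent.Lib.Components.GenFitting
import Cfsg.Agent.Lib.Extraspecial.OutModel
import Cfsg.Agent.Lib.FusionP3.GenExtra.Iso
import Cfsg.Agent.Lib.Co1Local52.Iso

/-!
# Suzuki type: the coded data from the hypotheses

`Q` is the extraspecial group of minus type, as `|Ω⁻(6, 2)|` does not divide `|O⁺(6, 2)|`.

Owner: helper52.
-/

set_option autoImplicit false

namespace Cfsg.Agent.Lib.SuzType52

open Cfsg.Agent.Lib.Extraspecial Cfsg.Agent.Lib.Extraspecial.OutModel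
open Cfsg.Agent.Lib.LargeExtraspecial.Basic
open scoped Matrix

/-- The coordinates. -/
abbrev I6 : Type := (Fin 2 ⊕ Fin 2) ⊕ Fin 2

/-- The bit of a coordinate. -/
def pos : I6 → ℕ
  | .inl (.inl i) => 2 * i.val
  | .inl (.inr i) => 2 * i.val + 1
  | .inr i => 4 + i.val

/-- The vector with a code. -/
def dec (k : ℕ) : I6 → ZMod 2 := fun i => bif k.testBit (pos i) then 1 else 0

/-- The code of a vector. -/
def enc (v : I6 → ZMod 2) : ℕ :=
  (v (.inl (.inl 0))).val + 2 * (v (.inl (.inr 0))).val + 4 * (v (.inl (.inl 1))).val +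
    8 * (v (.inl (.inr 1))).val + 16 * (v (.inr 0)).val + 32 * (v (.inr 1)).val

theorem dec_enc : ∀ v : I6 → ZMod 2, dec (enc v) = v := by decide +kernel

theorem enc_lt : ∀ v : I6 → ZMod 2, enc v < 64 := by decide +kernel

theorem enc_dec : ∀ k < 64, enc (dec k) = k := by decide +kernel

theorem dec_xor (j k : ℕ) : dec (j ^^^ k) = dec j + dec k := by
  funext i
  simp only [dec, Nat.testBit_xor, Pi.add_apply]
  cases j.testBit (pos i) <;> cases k.testBit (pos i) <;> decide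

theorem enc_add (v w : I6 → ZMod 2) : enc (v + w) = enc v ^^^ enc w := by
  conv_lhs => rw [← dec_enc v, ← dec_enc w, ← dec_xor]
  exact enc_dec _ (xor_lt (enc_lt v) (enc_lt w))

theorem qf_dec : ∀ k < 64, qf (minusMat 2) (dec k) = bif qn k then 1 else 0 := by decide +kernel

theorem enc_zero : enc 0 = 0 := rfl

theorem reflFun_dec {v k : ℕ} (hv : v < 64) (hk : k < 64) :
    Co1Local52.reflFun (qf (minusMat 2)) (dec v) (dec k) = dec (refl v k) := by
  have hb : Co1Local52.pol (qf (minusMat 2)) (dec v) (dec k) = bif bn v k then 1 else 0 := by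
    rw [Co1Local52.pol, ← dec_xor, qf_dec _ (xor_lt hv hk), qf_dec v hv, qf_dec k hk, bn]
    cases qn (v ^^^ k) <;> cases qn v <;> cases qn k <;> decide
  rw [Co1Local52.reflFun, hb, refl]
  cases bn v k
  · simp
  · simp [dec_xor]

theorem bin_aniso' : ∀ z₁ z₂ : ZMod 2, z₁ ^ 2 + 1 * z₁ * z₂ + 1 * z₂ ^ 2 = 0 → z₁ = 0 ∧ z₂ = 0 := by
  decide

theorem qf_eq (v : I6 → ZMod 2) :
    qf (minusMat 2) v = (Forms.qMinus 2 (1 : ZMod 2) 1) v := by
  rw [qf_minus, Forms.qMinus_apply]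

theorem omega_index6 : (Cfsg.Omega (ZMod 2) (qf (minusMat 2))).index = 2 :=
  Co1Local52.omega_index _ qf_eq (Forms.qMinus_nondeg 2 bin_aniso') (by simp) (by simp)

theorem card_iso6 : Nat.card (Cfsg.isometryGroup (ZMod 2) (qf (minusMat 2))) = 51840 := by
  rw [qf_minus]
  have := OrthStd.card_orth_minus (F := ZMod 2) (q := 2) (ZMod.card 2) 3 (by norm_num) bin_aniso'
  rw [show 3 - 1 = 2 from rfl] at this
  rw [this]
  simp [Finset.prod_range_succ]

theorem card_plus6 : Nat.card (Cfsg.isometryGroup (ZMod 2) (qf (plusMat 3))) = 40320 := by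
  rw [qf_plus, OrthStd.card_orth_plus (F := ZMod 2) (q := 2) (ZMod.card 2) 3 (by norm_num)]
  simp [Finset.prod_range_succ]

theorem card_omega6 : Nat.card (Cfsg.Omega (ZMod 2) (qf (minusMat 2))) = 25920 := by
  have := Subgroup.card_mul_index (Cfsg.Omega (ZMod 2) (qf (minusMat 2)))
  rw [omega_index6, card_iso6] at this
  omega

/-- A group with a normal self-centralizing extraspecial subgroup modelled on `B` acts on the form. -/
theorem exists_action {C : Type*} [Group C] [Finite C] {ι : Type} [Fintype ι] [DecidableEq ι]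
    {B : Matrix ι ι F2} (hB : (B + Bᵀ) * (B + Bᵀ) = 1) (Q : Subgroup C) [Q.Normal]
    (hself : Subgroup.centralizer (Q : Set C) ≤ Q) (φ : ↥Q ≃* Model B) :
    ∃ ρ : C →* Cfsg.isometryGroup F2 (qf B), ρ.ker = Q ∧
      ∀ (c : C) (q : ↥Q), Co1Local52.mv (ρ c) (φ q).v =
        (φ ⟨c * q * c⁻¹, Subgroup.Normal.conj_mem inferInstance q.1 q.2 c⟩).v := by
  let ψ : C →* MulAut (Model B) := (MulAut.congr φ).toMonoidHom.comp MulAut.conjNormal
  have hψ : ∀ (c : C) (q : ↥Q),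
      ψ c (φ q) = φ ⟨c * q * c⁻¹, Subgroup.Normal.conj_mem inferInstance q.1 q.2 c⟩ := fun c q => by
    show φ (MulAut.conjNormal c (φ.symm (φ q))) = _
    rw [MulEquiv.symm_apply_apply]
    congr 1
  refine ⟨(toIso hB).comp ψ, ?_, fun c q => ?_⟩
  · ext c
    rw [MonoidHom.mem_ker, MonoidHom.comp_apply, ← MonoidHom.mem_ker, ker_toIso]
    constructor
    · rintro ⟨m, hm⟩
      set p := φ.symm m with hp
      have hcq : (p : C)⁻¹ * c ∈ Subgroup.centralizer (Q : Set C) := by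
        refine Subgroup.mem_centralizer_iff.2 fun q hq => ?_
        have h1 := DFunLike.congr_fun hm (φ ⟨q, hq⟩)
        rw [hψ] at h1
        have h2 := congrArg (fun y => ((φ.symm y : ↥Q) : C)) h1
        simp only [MulAut.conj_apply, map_mul, map_inv, MulEquiv.symm_apply_apply, Subgroup.coe_mul,
          Subgroup.coe_inv, ← hp] at h2
        have h3 : (p : C)⁻¹ * c * q * ((p : C)⁻¹ * c)⁻¹ = q := by
          calc (p : C)⁻¹ * c * q * ((p : C)⁻¹ * c)⁻¹ = (p : C)⁻¹ * (c * q * c⁻¹) * p := by group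
            _ = q := by rw [← h2]; group
        exact (mul_inv_eq_iff_eq_mul.1 h3).symm
      have := mul_mem p.2 (hself hcq)
      rwa [mul_inv_cancel_left] at this
    · intro hc
      refine ⟨φ ⟨c, hc⟩, MulEquiv.ext fun m => ?_⟩
      obtain ⟨q, rfl⟩ := φ.surjective m
      rw [hψ, MulAut.conj_apply, ← map_inv, ← map_mul, ← map_mul]
      rfl
  · show ((toIso hB (ψ c) : GL ι F2) : Matrix ι ι F2) *ᵥ (φ q).v = _
    rw [toIso_mulVec hB, ← map_v hB (ψ c) (φ q), hψ]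

theorem exists_frame {G : Type*} [Group G] [Finite G] (z : G) (hz : orderOf z = 2) (C : Subgroup G)
    (hC : C = Subgroup.centralizer ({z} : Set G)) (Q : Subgroup C) [Q.Normal]
    (hF : Cfsg.generalizedFittingSubgroup C = Q)
    (hQ : Cfsg.IsExtraspecial 2 Q) (hcard : Nat.card Q = 2 ^ 7)
    (e : C ⧸ Q ≃* Cfsg.Omega (ZMod 2) (Cfsg.quadFormMinus 2 (ZMod 2) 1 1)) :
    ∃ (co : G → ℕ) (ac : G → ℕ → ℕ), Frame z (Q.map C.subtype) co ac := by
  classical
  have : Fact (Nat.Prime 2) := ⟨Nat.prime_two⟩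
  set Q' := Q.map C.subtype with hQ'
  have hself : Subgroup.centralizer (Q : Set C) ≤ Q := by
    have := Cfsg.Agent.Lib.Components.GenFitting.centralizer_le (G := C)
    rwa [hF] at this
  have hCm : ∀ {c : G}, c ∈ C ↔ Commute c z := fun {c} => hC ▸ Subgroup.mem_centralizer_singleton_iff
  have hzC : z ∈ C := hCm.2 (Commute.refl z)
  have hzQ : (⟨z, hzC⟩ : C) ∈ Q := hself (Subgroup.mem_centralizer_iff.2 fun q _ =>
    Subtype.ext (hCm.1 q.2).eq)
  have hQC : Q' ≤ C := Subgroup.map_subtype_le _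
  have hEs : Cfsg.IsExtraspecial 2 Q' :=
    Cfsg.Agent.Lib.FusionP3.GenExtra.isExtraspecial_congr
      (Q.equivMapOfInjective _ C.subtype_injective) hQ
  have hcen : (Subgroup.center ↥Q').map Q'.subtype = Subgroup.zpowers z := by
    refine (Subgroup.eq_of_le_of_card_ge (Subgroup.zpowers_le.2 ?_) ?_).symm
    · exact Cfsg.Agent.Lib.LargeExtra.Basic.mem_centerMap.2 ⟨⟨_, hzQ, rfl⟩, fun y hy =>
        (hCm.1 (hQC hy)).eq⟩
    · rw [Cfsg.Agent.Lib.LargeExtra.Basic.card_centerMap hEs, Nat.card_zpowers, hz]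
  have hes := (Cfsg.Agent.Lib.LargeExtra.TwoConjugate.es_of hEs hcen).1
  have hquot : Nat.card (C ⧸ Q) = 25920 := by
    rw [Nat.card_congr e.toEquiv, ← qf_minus, card_omega6]
  -- `Q` is of minus type
  obtain ⟨z₀, hz₀⟩ := exists_esData hQ
  obtain ⟨φ⟩ : Nonempty (↥Q ≃* Model (minusMat 2)) := by
    rcases two_of_three hz₀ (esData (plusMat_sq 3)) (esData (minusMat_sq 2))
        (by rw [hcard, card_model]; rfl) (by rw [card_model, card_model]; rfl) with
      ⟨f, -⟩ | ⟨f, -⟩ | ⟨f, -⟩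
    · exfalso
      obtain ⟨ρ, hρ, -⟩ := exists_action (plusMat_sq 3) Q hself f
      have h1 := Subgroup.index_ker ρ
      rw [hρ, Subgroup.index_eq_card, hquot] at h1
      have h2 := Subgroup.card_subgroup_dvd_card ρ.range
      rw [← h1, card_plus6] at h2
      norm_num at h2
    · exfalso
      obtain ⟨A, ⟨hc, he⟩, hA⟩ := plus_exists 3
      refine minus_not_exists 2 ⟨A.map f.toMonoidHom, ⟨⟨⟨?_⟩⟩, ?_⟩, ?_⟩
      · rintro ⟨_, a, ha, rfl⟩ ⟨_, b, hb, rfl⟩
        refine Subtype.ext ?_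
        show f a * f b = f b * f a
        rw [← map_mul, ← map_mul]
        exact congrArg f (congrArg Subtype.val (hc.is_comm.comm ⟨a, ha⟩ ⟨b, hb⟩))
      · rintro _ ⟨a, ha, rfl⟩
        show f a ^ 2 = 1
        rw [← map_pow, he a ha, map_one]
      · rw [Subgroup.card_map_of_injective f.injective, hA]
    · exact ⟨f⟩
  obtain ⟨ρ, hρ, hρmv⟩ := exists_action (minusMat_sq 2) Q hself φ
  have hrange : ρ.range = Cfsg.Omega (ZMod 2) (qf (minusMat 2)) := by
    have h1 := Subgroup.index_ker ρ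
    rw [hρ, Subgroup.index_eq_card, hquot] at h1
    have h2 : ρ.range.index = 2 := by
      have := Subgroup.card_mul_index ρ.range
      rw [← h1, card_iso6] at this
      omega
    have hle : Cfsg.Omega (ZMod 2) (qf (minusMat 2)) ≤ ρ.range := by
      show commutator _ ≤ _
      rw [commutator_def, Subgroup.commutator_le]
      intro a _ b _
      rw [commutatorElement_def]
      simp only [Subgroup.mul_mem_iff_of_index_two h2, inv_mem_iff]
      tauto
    exact (Subgroup.eq_of_le_of_card_ge hle (by rw [← h1, card_omega6])).symm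
  have hmem : ∀ {q : G}, q ∈ Q' ↔ ∃ h : q ∈ C, (⟨q, h⟩ : C) ∈ Q := by
    intro q
    constructor
    · rintro ⟨⟨q, hq⟩, hm, rfl⟩
      exact ⟨hq, hm⟩
    · rintro ⟨h, hm⟩
      exact ⟨⟨q, h⟩, hm, rfl⟩
  let toQ : ∀ q, q ∈ Q' → ↥Q := fun q hq => ⟨⟨q, (hmem.1 hq).choose⟩, (hmem.1 hq).choose_spec⟩
  let co : G → ℕ := fun q => if hq : q ∈ Q' then enc (φ (toQ q hq)).v else 0
  let ac : G → ℕ → ℕ := fun c k =>
    if hc : c ∈ C then enc (Co1Local52.mv (ρ ⟨c, hc⟩) (dec k)) else k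
  have hco : ∀ q : ↥Q, co (q : C) = enc (φ q).v := fun q => by
    have hq : ((q : C) : G) ∈ Q' := ⟨q.1, q.2, rfl⟩
    simp only [co, dif_pos hq]
    rfl
  have hac : ∀ (c : C) k, ac c k = enc (Co1Local52.mv (ρ c) (dec k)) := fun c k => dif_pos c.2
  have hlift : ∀ {c : G}, Commute c z → c ∈ C :=
    fun hc => hCm.2 hc
  refine ⟨co, ac, ?_⟩
  constructor
  · exact hz
  · exact hes
  · intro c hc
    have hcC : c ∈ C := hlift (hc z ⟨_, hzQ, rfl⟩)
    have h1 : (⟨c, hcC⟩ : C) ∈ Q := hself (Subgroup.mem_centralizer_iff.2 fun q hq =>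
      Subtype.ext (hc q ⟨q, hq, rfl⟩).eq.symm)
    exact hes.center c ⟨_, h1, rfl⟩ fun p hp => (hc p hp).symm
  · rintro c hc _ ⟨q, hq, rfl⟩
    exact ⟨⟨c, hlift hc⟩ * q * ⟨c, hlift hc⟩⁻¹, Subgroup.Normal.conj_mem inferInstance q hq _, rfl⟩
  · rw [hQ', Subgroup.card_map_of_injective C.subtype_injective, hcard]
    norm_num
  · rintro _ ⟨q, hq, rfl⟩
    show co ((⟨q, hq⟩ : ↥Q) : C) < 64
    rw [hco]
    exact enc_lt _
  · rintro _ ⟨q, hq, rfl⟩ _ ⟨r, hr, rfl⟩
    show co ((⟨q, hq⟩ * ⟨r, hr⟩ : ↥Q) : C) = co ((⟨q, hq⟩ : ↥Q) : C) ^^^ co ((⟨r, hr⟩ : ↥Q) : C)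
    rw [hco, hco, hco, map_mul, mul_v, enc_add]
  · rintro _ ⟨q, hq, rfl⟩ h0
    change co ((⟨q, hq⟩ : ↥Q) : C) = 0 at h0
    rw [hco] at h0
    have hv : (φ ⟨q, hq⟩).v = 0 := by rw [← dec_enc (φ ⟨q, hq⟩).v, h0, ← enc_zero, dec_enc]
    have hcenQ : (⟨q, hq⟩ : ↥Q) ∈ Subgroup.center ↥Q := by
      refine Subgroup.mem_center_iff.2 fun p => φ.injective ?_
      rw [map_mul, map_mul]
      exact Subgroup.mem_center_iff.1 ((mem_center_iff (minusMat_sq 2) _).2 hv) (φ p)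
    refine hes.center _ ⟨q, hq, rfl⟩ ?_
    rintro _ ⟨p, hp, rfl⟩
    exact congrArg (fun y : ↥Q => ((y : C) : G)) (Subgroup.mem_center_iff.1 hcenQ ⟨p, hp⟩)
  · intro k hk
    obtain ⟨q, hq⟩ := φ.surjective (⟨dec k, 0⟩ : Model (minusMat 2))
    exact ⟨(q : C), ⟨q.1, q.2, rfl⟩, by rw [hco, hq]; exact enc_dec k hk⟩
  · rintro _ ⟨q, hq, rfl⟩
    show (((⟨q, hq⟩ * ⟨q, hq⟩ : ↥Q) : C) : G) = pw z (qn (co ((⟨q, hq⟩ : ↥Q) : C)))
    rw [hco]
    have hqn : qf (minusMat 2) (φ ⟨q, hq⟩).v = bif qn (enc (φ ⟨q, hq⟩).v) then 1 else 0 := by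
      rw [← qf_dec _ (enc_lt _), dec_enc]
    have hsq : φ (⟨q, hq⟩ * ⟨q, hq⟩) = ⟨0, qf (minusMat 2) (φ ⟨q, hq⟩).v⟩ := by rw [map_mul, sq_eq]
    cases hb : qn (enc (φ ⟨q, hq⟩).v) with
    | false =>
      rw [hqn, hb] at hsq
      have : (⟨q, hq⟩ * ⟨q, hq⟩ : ↥Q) = 1 := φ.injective (hsq.trans (map_one φ).symm)
      rw [this]
      rfl
    | true =>
      rw [hqn, hb] at hsq
      have hne : (⟨q, hq⟩ * ⟨q, hq⟩ : ↥Q) ≠ 1 := fun e' => by
        rw [e', map_one] at hsq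
        have := congrArg Model.c hsq
        rw [one_c] at this
        exact absurd this zero_ne_one
      rcases hes.sq_cases (q := (q : G)) ⟨q, hq, rfl⟩ with e' | e'
      · exact absurd (Subtype.ext (Subtype.ext e')) hne
      · exact e'
  · rintro c hc _ ⟨q, hq, rfl⟩
    show co ((⟨(⟨c, hlift hc⟩ : C) * q * (⟨c, hlift hc⟩ : C)⁻¹,
      Subgroup.Normal.conj_mem inferInstance q hq _⟩ : ↥Q) : C) =
        ac ((⟨c, hlift hc⟩ : C) : G) (co ((⟨q, hq⟩ : ↥Q) : C))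
    rw [hco, hco, hac, dec_enc, hρmv]
  · intro c hc hk
    refine ⟨⟨c, hlift hc⟩, ?_, rfl⟩
    rw [SetLike.mem_coe, ← hρ, MonoidHom.mem_ker]
    refine Co1Local52.iso_ext fun v => ?_
    have h1 := hk (enc v) (enc_lt v)
    rw [show c = ((⟨c, hlift hc⟩ : C) : G) from rfl, hac, dec_enc] at h1
    rw [Co1Local52.mv_one, ← dec_enc (Co1Local52.mv _ v), h1, dec_enc]
  · intro v hv w hw hqv hqw
    have hv1 : qf (minusMat 2) (dec v) = 1 := by rw [qf_dec v hv, hqv]; rfl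
    have hw1 : qf (minusMat 2) (dec w) = 1 := by rw [qf_dec w hw, hqw]; rfl
    obtain ⟨g, hg⟩ := Co1Local52.exists_refl _ qf_eq (dec v) hv1
    obtain ⟨g', hg'⟩ := Co1Local52.exists_refl _ qf_eq (dec w) hw1
    have hn : ∀ (g : Cfsg.isometryGroup (ZMod 2) (qf (minusMat 2))) (v : I6 → ZMod 2),
        qf (minusMat 2) v = 1 → (∀ x, Co1Local52.mv g x = Co1Local52.reflFun (qf (minusMat 2)) v x) →
        g ∉ Cfsg.Omega (ZMod 2) (qf (minusMat 2)) :=
      Co1Local52.refl_notMem _ qf_eq (Forms.qMinus_nondeg 2 bin_aniso') (by simp)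
    have hgg : g * g' ∈ ρ.range := by
      rw [hrange]
      exact (Subgroup.mul_mem_iff_of_index_two omega_index6).2
        (iff_of_false (hn g _ hv1 hg) (hn g' _ hw1 hg'))
    obtain ⟨c, hc⟩ := hgg
    refine ⟨c, hCm.1 c.2, fun k hk => ?_⟩
    have hlt : refl w k < 64 := by
      rw [refl]
      cases bn w k
      · exact hk
      · exact xor_lt hk hw
    have hlt2 : refl v (refl w k) < 64 := by
      rw [refl]
      cases bn v (refl w k)
      · exact hlt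
      · exact xor_lt hlt hv
    rw [hac, hc, Co1Local52.mv_mul, hg' (dec k), reflFun_dec hw hk, hg, reflFun_dec hv hlt,
      enc_dec _ hlt2]
    rfl
  · intro c hc v hv hqv hall
    have hv1 : qf (minusMat 2) (dec v) = 1 := by rw [qf_dec v hv, hqv]; rfl
    refine Co1Local52.refl_notMem _ qf_eq (Forms.qMinus_nondeg 2 bin_aniso') (by simp)
      (ρ ⟨c, hlift hc⟩) (dec v) hv1 (fun y => ?_) (hrange ▸ ⟨_, rfl⟩)
    rw [← dec_enc (Co1Local52.mv _ y), ← dec_enc y, reflFun_dec hv (enc_lt y)]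
    congr 1
    exact (hac ⟨c, hlift hc⟩ (enc y)).symm.trans (hall (enc y) (enc_lt y))

theorem two_classes_of {G : Type*} [Group G] [Finite G] (z : G) (hz : orderOf z = 2)
    (Q : Subgroup (Subgroup.centralizer ({z} : Set G))) [Q.Normal]
    (hF : Cfsg.generalizedFittingSubgroup (Subgroup.centralizer ({z} : Set G)) = Q)
    (hQ : Cfsg.IsExtraspecial 2 Q) (hcard : Nat.card Q = 2 ^ 7)
    (e : (Subgroup.centralizer ({z} : Set G)) ⧸ Q ≃*
      Cfsg.Omega (ZMod 2) (Cfsg.quadFormMinus 2 (ZMod 2) 1 1))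
    (hnwc : ∃ g : G, (∃ hq : g * z * g⁻¹ ∈ Subgroup.centralizer ({z} : Set G),
      (⟨g * z * g⁻¹, hq⟩ : Subgroup.centralizer ({z} : Set G)) ∈ Q) ∧ g * z * g⁻¹ ≠ z) :
    ∃ a b : G, orderOf a = 2 ∧ orderOf b = 2 ∧ ¬ IsConj a b ∧
      ∀ x : G, orderOf x = 2 → IsConj x a ∨ IsConj x b := by
  obtain ⟨co, ac, h⟩ := exists_frame z hz _ rfl Q hF hQ hcard e
  obtain ⟨g, ⟨hq, hgQ⟩, hne⟩ := hnwc
  obtain ⟨x, n, d⟩ := h.exists_duo ⟨g, ⟨_, hgQ, rfl⟩, hne⟩
  exact d.two_classes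

end Cfsg.Agent.Lib.SuzType52
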