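import Cfsg.Agent.Lib.SuzType52.Classes

/-!
# Suzuki type: `C(z) ∩ C(b)` has class at most two modulo `Q`

An element commuting with `z` and with the non-`2`-central involution `b` acts on `Q / Z(Q)` in a group
of class two, while `z` is a triple commutator of such elements.

Owner: helper52.
-/

set_option autoImplicit false

namespace Cfsg.Agent.Lib.SuzType52

theorem tw_spec_aux : (List.range 4).all (fun i => (List.range 64).all fun k =>
    Nat.beq (tw i (tw i k)) k && Nat.beq (tw i k &&& 60) (tw i (k &&& 60))) = true := by decide +kernel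

theorem tw_spec {i k : ℕ} (hi : i < 4) (hk : k < 64) :
    tw i (tw i k) = k ∧ tw i k &&& 60 = tw i (k &&& 60) := by
  have := List.all_eq_true.1 (List.all_eq_true.1 tw_spec_aux i (List.mem_range.2 hi)) k (List.mem_range.2 hk)
  rw [Bool.and_eq_true] at this
  exact ⟨Nat.eq_of_beq_eq_true this.1, Nat.eq_of_beq_eq_true this.2⟩

theorem tw_one : ∀ i < 4, tw i 1 = 1 := by decide +kernel

theorem tw_iso {i : ℕ} (hi : i < 4) : Iso6 (tw i) := by
  have h12 : (12 : ℕ) ∈ ns4 := by decide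
  have h16 : (16 : ℕ) ∈ ns4 := by decide
  interval_cases i
  · exact ⟨fun _ hk => hk, fun _ _ _ _ => rfl, fun _ _ => rfl⟩
  · exact refl_iso h16
  · exact refl_iso h12
  · exact (refl_iso h16).comp (refl_iso h12)

theorem Iso6.ext {f g : ℕ → ℕ} (hf : Iso6 f) (hg : Iso6 g)
    (h : ∀ k ∈ [1, 2, 4, 8, 16, 32], f k = g k) {k : ℕ} (hk : k < 64) : f k = g k := by
  rw [← hf.lin_eq hk, ← hg.lin_eq hk, h 1 (by simp), h 2 (by simp), h 4 (by simp), h 8 (by simp),
    h 16 (by simp), h 32 (by simp)]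

variable {G : Type*} [Group G]

namespace Frame

variable {z : G} {Q : Subgroup G} {co : G → ℕ} {ac : G → ℕ → ℕ} (h : Frame z Q co ac)
include h

theorem eich_iso {a : ℕ} (ha : a ∈ v4) : Iso6 (eich a) := by
  obtain ⟨c, hc, hck⟩ := h.exists_eich ha
  refine ⟨fun k hk => eich_lt ha hk, fun j hj k hk => ?_, fun k hk => ?_⟩
  · rw [← hck j hj, ← hck k hk, ← hck _ (xor_lt hj hk), h.ac_xor hc hj hk]
  · rw [← hck k hk, h.ac_qn hc hk]

/-- The commutator of two actions from the group of class two, and its centrality. -/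
theorem triple_trivial {g g' k' : G} (hg : Commute g z) (hg' : Commute g' z) (hk' : Commute k' z)
    {i j l a b c : ℕ} (hi : i < 4) (hj : j < 4) (hl : l < 4) (ha : a ∈ v4) (hb : b ∈ v4) (hc : c ∈ v4)
    (e1 : ∀ k < 64, ac g k = wn i a k) (e2 : ∀ k < 64, ac g' k = wn j b k)
    (e3 : ∀ k < 64, ac k' k = wn l c k) :
    (g * g' * g⁻¹ * g'⁻¹) * k' * (g * g' * g⁻¹ * g'⁻¹)⁻¹ * k'⁻¹ ∈ Q := by
  obtain ⟨e, he, hE⟩ := List.any_eq_true.1 (List.all_eq_true.1 (List.all_eq_true.1
    (List.all_eq_true.1 (List.all_eq_true.1 comm_aux i (List.mem_range.2 hi)) a ha) j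
    (List.mem_range.2 hj)) b hb)
  have he4 : e ∈ v4 := by
    have : ∀ e ∈ [0, 12, 16, 28], e ∈ v4 := by decide
    exact this e he
  have hi1 := (tw_iso hi).comp (h.eich_iso ha)
  have hj1 := (tw_iso hj).comp (h.eich_iso hb)
  have hswap : ∀ k < 64, wn i a (wn j b k) = eich e (wn j b (wn i a k)) := fun k hk =>
    (hi1.comp hj1).ext ((h.eich_iso he4).comp (hj1.comp hi1))
      (fun k hk => Nat.eq_of_beq_eq_true (List.all_eq_true.1 hE k hk)) hk
  set d := g * g' * g⁻¹ * g'⁻¹ with hd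
  have hdz : Commute d z := ((hg.mul_left hg').mul_left hg.inv_left).mul_left hg'.inv_left
  have hdk : ∀ k < 64, ac d k = eich e k := by
    intro k hk
    have h1 := h.ac_lt hg'.inv_left hk
    have h2 := h.ac_lt hg.inv_left h1
    rw [hd, h.ac_mul ((hg.mul_left hg').mul_left hg.inv_left) hg'.inv_left hk,
      h.ac_mul (hg.mul_left hg') hg.inv_left h1, h.ac_mul hg hg' h2, e2 _ h2,
      e1 _ (by rw [← e2 _ h2]; exact h.ac_lt hg' h2), hswap _ h2, ← e1 _ h2, h.ac_inv' hg h1,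
      ← e2 _ h1, h.ac_inv' hg' hk]
  refine h.faithful _ (((hdz.mul_left hk').mul_left hdz.inv_left).mul_left hk'.inv_left) fun k hk => ?_
  have h1 := h.ac_lt hk'.inv_left hk
  have h2 := h.ac_lt hdz.inv_left h1
  rw [h.ac_mul ((hdz.mul_left hk').mul_left hdz.inv_left) hk'.inv_left hk,
    h.ac_mul (hdz.mul_left hk') hdz.inv_left h1, h.ac_mul hdz hk' h2, hdk _ (h.ac_lt hk' h2), e3 _ h2,
    ← Nat.eq_of_beq_eq_true (List.all_eq_true.1 (List.all_eq_true.1 (List.all_eq_true.1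
      (List.all_eq_true.1 central_aux l (List.mem_range.2 hl)) c hc) e he) _ (List.mem_range.2 h2)),
    ← hdk _ h2, h.ac_inv' hdz h1, ← e3 _ h1, h.ac_inv' hk' hk]

end Frame

namespace Duo

variable {z : G} {Q : Subgroup G} {co : G → ℕ} {ac : G → ℕ → ℕ} {x n : G}
  (d : Duo z Q co ac x n)
include d

/-- The action of an element commuting with `z` and with a product of parameters `16, 32`. -/
theorem ac_of_commute {b c : G} (hb : Form Q co ac n z b 16 32) (hcz : Commute c z) (hcb : Commute c b) :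
    ∃ i < 4, ∃ a ∈ v4, ∀ k < 64, ac c k = wn i a k := by
  have h16 : (16 : ℕ) ∈ v4 := by decide
  obtain ⟨hbz, hbk⟩ := d.form_commute hb
  have hG := d.fr.iso hcz
  have hEc : ∀ k < 64, ac c (eich 16 k) = eich 16 (ac c k) := fun k hk => by
    rw [← hbk k hk, ← d.fr.ac_mul hcz hbz hk, hcb.eq, d.fr.ac_mul hbz hcz hk, hbk _ (hG.lt k hk)]
  have hdiff : ∀ k < 64, ac c (eich 16 k ^^^ k) = eich 16 (ac c k) ^^^ ac c k := fun k hk => by
    rw [hG.add _ (eich_lt h16 hk) k hk, hEc k hk]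
  have hG1 : ac c 1 = 1 := by
    have e := hdiff 32 (by norm_num)
    rw [show eich 16 32 ^^^ 32 = 1 by decide] at e
    rcases image16 _ (hG.lt 32 (by norm_num)) (by rw [← e, hG.pres 1 (by norm_num)]; decide) with h | h
    · exfalso
      rw [h] at e
      have := congrArg (ac c⁻¹) e
      rw [d.fr.ac_inv hcz (by norm_num), (d.fr.iso hcz.inv_left).zero] at this
      omega
    · exact e.trans h
  have hG16 : ac c 16 &&& 60 = 16 := by
    have e := hdiff 2 (by norm_num)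
    rw [show eich 16 2 ^^^ 2 = 16 ^^^ 1 by decide, hG.add 16 (by norm_num) 1 (by norm_num), hG1] at e
    have h := image16' _ (hG.lt 2 (by norm_num)) (by
      rw [← e, ← hG1, ← hG.add 16 (by norm_num) 1 (by norm_num), hG.pres _ (by norm_num)]
      decide)
    rw [← e] at h
    have e2 := congrArg (fun k => k &&& 60) (Nat.xor_assoc (ac c 16) 1 1)
    simp only [Nat.xor_self, Nat.xor_zero] at e2
    rcases h with h | h <;> rw [h] at e2 <;> exact e2.symm
  obtain ⟨u, r₀, hu, hua, hr₀, hr₀v, hbe⟩ := hb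
  have hiff : ∀ q ∈ Q, b1 (co q) = false → bn 16 (co q) = false →
      (Commute q b ↔ bn (co q) 32 = false) := by
    intro q hq hq1 hq16
    have hqu : Commute q u := by
      have e := d.com_act 16 h16 u q hu hua ⟨hq, hq1⟩
      rw [hq16, d.ee_zero] at e
      exact mul_inv_eq_iff_eq_mul.1 (mul_inv_eq_one.1 e)
    have h33 : bn (co q) (co r₀) = bn (co q) 32 := by
      rw [bn_comm _ (32 : ℕ), ← bn_mask (show (32 : ℕ) ∈ v4 by decide) (d.fr.co_lt q hq) hq1,
        bn_comm 32, ← hr₀v]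
      exact (bn_mask2 (d.fr.co_lt q hq) (d.fr.co_lt r₀ hr₀.1) hq1 hr₀.2).symm
    rw [← h33, ← d.fr.commute_Q hq hr₀.1, hbe]
    constructor
    · intro h
      have := hqu.inv_right.mul_right h
      rwa [inv_mul_cancel_left] at this
    · exact fun h => hqu.mul_right h
  have hbG : ∀ j ∈ [4, 8, 16, 32], b1 (ac c j) = false := fun j hj => by
    have hj' : j < 64 ∧ b1 j = false := by revert j; decide
    rw [hG.b1_eq' hG1 hj'.1, hj'.2]
  have hm : ∀ j ∈ [4, 8, 16, 32], qn (ac c j &&& 60) = qn j ∧ ac c j &&& 60 ∈ v4 ∧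
      (∀ i ∈ [4, 8, 16, 32], bn (ac c i &&& 60) (ac c j &&& 60) = bn i j) := fun j hj => by
    have hl : ∀ i ∈ [4, 8, 16, 32], i < 64 := by decide
    refine ⟨?_, mem_v4 (hG.lt j (hl j hj)), fun i hi => ?_⟩
    · rw [qn_mask (hG.lt j (hl j hj)) (hbG j hj), hG.pres j (hl j hj)]
    · rw [bn_mask2 (hG.lt i (hl i hi)) (hG.lt j (hl j hj)) (hbG i hi) (hbG j hj),
        hG.bn_eq (hl i hi) (hl j hj)]
  have h32 : ∀ j ∈ [4, 8], bn (ac c j &&& 60) 32 = false := by
    intro j hj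
    have hj' : j < 64 ∧ b1 j = false ∧ bn 16 j = false ∧ bn j 32 = false ∧ j ∈ [4, 8, 16, 32] := by
      revert j; decide
    obtain ⟨q, hq, rfl⟩ := d.fr.co_surj j hj'.1
    have hq' := d.fr.norm c hcz q hq
    have hco : co (c * q * c⁻¹) = ac c (co q) := d.fr.conj c hcz q hq
    have h1 := (hiff q hq hj'.2.1 hj'.2.2.1).2 hj'.2.2.2.1
    have h2 : Commute (c * q * c⁻¹) b := by
      have e : c * b * c⁻¹ = b := mul_inv_eq_iff_eq_mul.2 hcb.eq
      simpa [e] using h1.map (MulAut.conj c).toMonoidHom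
    have hb1 : b1 (co (c * q * c⁻¹)) = false := by rw [hco]; exact hbG _ hj'.2.2.2.2
    have hb16 : bn 16 (co (c * q * c⁻¹)) = false := by
      rw [← bn_mask h16 (d.fr.co_lt _ hq') hb1, hco]
      have e := (hm _ hj'.2.2.2.2).2.2 16 (by simp)
      rw [hG16] at e
      exact e.trans hj'.2.2.1
    have h3 := (hiff _ hq' hb1 hb16).1 h2
    rw [hco, bn_comm, ← bn_mask (show (32 : ℕ) ∈ v4 by decide) (hG.lt _ hj'.1) (hbG _ hj'.2.2.2.2),
      bn_comm] at h3
    exact h3
  obtain ⟨q4, m4, n4⟩ := hm 4 (by simp)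
  obtain ⟨q8, m8, n8⟩ := hm 8 (by simp)
  obtain ⟨q32, m32, n32⟩ := hm 32 (by simp)
  have n416 := n4 16 (by simp)
  have n816 := n8 16 (by simp)
  have n1632 := n32 16 (by simp)
  rw [hG16] at n416 n816 n1632
  rw [bn_comm, bn_comm 16 4] at n416
  rw [bn_comm, bn_comm 16 8] at n816
  have key := List.all_eq_true.1 tw_aux _ m4
  rw [q4, n416, h32 4 (by simp), show qn 4 = false from rfl, show bn 4 16 = false from rfl,
    Bool.or_eq_true] at key
  have key := List.all_eq_true.1 (key.resolve_left (by decide)) _ m8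
  rw [q8, n816, h32 8 (by simp), n8 4 (by simp), show qn 8 = false from rfl,
    show bn 8 16 = false from rfl, show bn 4 8 = true from rfl, Bool.or_eq_true] at key
  have key := List.all_eq_true.1 (key.resolve_left (by decide)) _ m32
  rw [q32, n32 4 (by simp), n32 8 (by simp), n1632, show qn 32 = true from rfl,
    show bn 4 32 = false from rfl, show bn 8 32 = false from rfl, show bn 16 32 = true from rfl,
    Bool.or_eq_true] at key
  obtain ⟨i, hi, hI⟩ := List.any_eq_true.1 (key.resolve_left (by decide))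
  have hi' := List.mem_range.1 hi
  have hb4 : ∀ j ∈ [4, 8, 16, 32], j ∈ v4 ∧ j < 64 := by decide
  have htw : ∀ j ∈ [4, 8, 16, 32], ac c j &&& 60 = tw i j := fun j hj => by
    rw [← hG.induced (hb4 j hj).1, hG16]
    exact Nat.eq_of_beq_eq_true (List.all_eq_true.1 hI j hj)
  obtain ⟨a, ha, hka⟩ := ((tw_iso hi').comp hG).eich_of_basis
    (show tw i (ac c 1) = 1 by rw [hG1, tw_one i hi']) (fun j hj => by
      show tw i (ac c j) &&& 60 = j
      rw [(tw_spec hi' (hG.lt j (hb4 j hj).2)).2, htw j hj, (tw_spec hi' (hb4 j hj).2).1])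
  refine ⟨i, hi', a, ha, fun k hk => ?_⟩
  rw [wn, ← hka k hk, (tw_spec hi' (hG.lt k hk)).1]

/-- The commutator of two lifts. -/
theorem com_BB {u v : G} {a b : ℕ} (ha : a ∈ v4) (hb : b ∈ v4) (hu : InB Q n z u) (hv : InB Q n z v)
    (h1 : Act ac u a) (h2 : Act ac v b) : com u v = pw x (bn a b) := by
  have hval : ∀ {w : G} {e : ℕ}, e ∈ v4 → InB Q n z w → Act ac w e → qn (co (n⁻¹ * w * n)) = qn e :=
    fun he hw h => d.pw_x_inj ((d.P_sq hw.1).symm.trans (d.sq_act _ he _ hw h))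
  obtain ⟨h3, h4⟩ := d.act_mul hu hv ha hb h1 h2
  have e := d.fr.comm_Q hu.1 hv.1
  have hbn : bn (co (n⁻¹ * u * n)) (co (n⁻¹ * v * n)) = bn a b := by
    rw [bn, bn, hval ha hu h1, hval hb hv h2, ← d.fr.co_mul _ hu.1 _ hv.1,
      show n⁻¹ * u * n * (n⁻¹ * v * n) = n⁻¹ * (u * v) * n by group, hval (v4_xor a ha b hb) h3 h4]
  rw [hbn] at e
  calc com u v = n * ((n⁻¹ * u * n) * (n⁻¹ * v * n) * (n⁻¹ * u * n)⁻¹) * n⁻¹ * v⁻¹ := by
        simp only [com]; group
    _ = v * (n * pw z (bn a b) * n⁻¹) * v⁻¹ := by rw [e]; group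
    _ = pw x (bn a b) := by
      cases bn a b
      · simp [pw]
      · show v * (n * z * n⁻¹) * v⁻¹ = x
        rw [d.nz]
        exact mul_inv_eq_iff_eq_mul.2 (d.B_comm hv).1.eq

/-- `z` is a triple commutator in `C(z) ∩ C(b)`. -/
theorem z_triple {b : G} (hb : Form Q co ac n z b 16 32) :
    ∃ g g' k', (Commute g z ∧ Commute g b) ∧ (Commute g' z ∧ Commute g' b) ∧
      (Commute k' z ∧ Commute k' b) ∧ com (com g g') k' = z := by
  have h16 : (16 : ℕ) ∈ v4 := by decide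
  have h4 : (4 : ℕ) ∈ v4 := by decide
  have h8 : (8 : ℕ) ∈ v4 := by decide
  obtain ⟨g, hg, hga⟩ := d.lift 4 h4
  obtain ⟨g', hg', hga'⟩ := d.lift 8 h8
  have hbform := hb
  obtain ⟨u, r, hu, hua, hr, hrv, hbe⟩ := hb
  have hcb : ∀ {w : G} {e : ℕ}, e ∈ v4 → InB Q n z w → Act ac w e → bn e 16 = false → bn e 32 = false →
      Commute w b := by
    intro w e he hw h h1 h2
    have c1 : com w u = 1 := by rw [d.com_BB he h16 hw hu h hua, h1]; rfl
    have c2 : com r w = 1 := by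
      rw [d.com_act e he w r hw h hr, ← bn_mask he (d.fr.co_lt r hr.1) hr.2, hrv, h2, d.ee_zero]
    rw [hbe]
    exact (show Commute w u from mul_inv_eq_iff_eq_mul.1 (mul_inv_eq_one.1 c1)).mul_right
      (show Commute r w from mul_inv_eq_iff_eq_mul.1 (mul_inv_eq_one.1 c2)).symm
  have hgb := hcb h4 hg hga (by decide) (by decide)
  have hgb' := hcb h8 hg' hga' (by decide) (by decide)
  have hp : ((16, 12) : ℕ × ℕ) ∈ pairs4 := by decide
  obtain ⟨c, hc, hcx, hck⟩ := d.exists_prE hp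
  obtain ⟨q, hq, hqc⟩ := d.fr.co_surj 2 (by norm_num)
  have hF := d.form_conj hp h16 hc hcx hck hbform
  rw [show pr (16, 12) 16 = 16 by decide, show pr (16, 12) 32 = 48 by decide] at hF
  have hF2 := d.form_shift h16 hF hq hqc
  rw [show 48 ^^^ 16 = 32 by decide] at hF2
  obtain ⟨w, hw, hwb⟩ := d.form_unique hF2 hbform
  refine ⟨g, g', w * q * c, ⟨hg.2, hgb⟩, ⟨hg'.2, hgb'⟩, ⟨?_, ?_⟩, ?_⟩
  · exact ((d.A_comm hw).2.mul_left (d.fr.es.comm q hq)).mul_left hc
  · refine mul_inv_eq_iff_eq_mul.1 ?_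
    calc w * q * c * b * (w * q * c)⁻¹ = w * (q * (c * b * c⁻¹) * q⁻¹) * w⁻¹ := by group
      _ = b := hwb
  · rw [d.com_BB h4 h8 hg hg' hga hga', show bn 4 8 = true from rfl]
    show com x (w * q * c) = z
    have hwxz : w * (x * z) * w⁻¹ = x * z :=
      mul_inv_eq_iff_eq_mul.2 ((d.A_comm hw).1.mul_right (d.A_comm hw).2).eq
    calc com x (w * q * c) = x * (w * (q * (c * x⁻¹ * c⁻¹) * q⁻¹) * w⁻¹) := by simp only [com]; group
      _ = x * (w * (q * x * q⁻¹) * w⁻¹) := by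
        rw [inv_eq_of_mul_eq_one_right d.xsq, mul_inv_eq_iff_eq_mul.2 hcx.eq]
      _ = x * (x * z) := by rw [d.xz_conj hq hqc, hwxz]
      _ = z := by rw [← mul_assoc, d.xsq, one_mul]

end Duo

end Cfsg.Agent.Lib.SuzType52
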