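import Cfsg.Agent.Lib.SuzType52.Values

/-!
# Suzuki type: the involutions of `C(z)`

An involution of `C(z)` outside `Q` is conjugate in `C(z)` into `P` or to a product `u r` of the
parameters `16, 32`; all such products are conjugate.

Owner: helper52.
-/

set_option autoImplicit false

namespace Cfsg.Agent.Lib.SuzType52

variable {G : Type*} [Group G]

/-- A product of a lift with parameter `a` and an element with parameter `v`. -/
def Form (Q : Subgroup G) (co : G → ℕ) (ac : G → ℕ → ℕ) (n z t : G) (a v : ℕ) : Prop :=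
  ∃ u r, InB Q n z u ∧ Act ac u a ∧ InA Q co r ∧ co r &&& 60 = v ∧ t = u * r

namespace Duo

variable {z : G} {Q : Subgroup G} {co : G → ℕ} {ac : G → ℕ → ℕ} {x n : G}
  (d : Duo z Q co ac x n)
include d

theorem isConj_x : IsConj z x := isConj_iff.2 ⟨n, d.nz⟩

theorem xz_conj {q : G} (hq : q ∈ Q) (hc : co q = 2) : q * x * q⁻¹ = x * z := by
  rw [d.fr.comm_Q hq d.xQ, hc, d.cox]
  rfl

/-- A singular non-central element of `Q` is moved to `x` by `C(z)`. -/
theorem exists_to_x {q : G} (hq : q ∈ Q) (h0 : co q ≠ 0) (hs : qn (co q) = false) :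
    ∃ c, Commute c z ∧ c * q * c⁻¹ = x := by
  obtain ⟨c, hc, hck⟩ := d.fr.exists_to_one (d.fr.co_lt q hq) h0 hs
  have hm := d.fr.norm c hc q hq
  rcases d.fr.co_eq d.xQ hm (by rw [d.cox, d.fr.conj c hc q hq, hck]) with e | e
  · exact ⟨c, hc, e⟩
  · obtain ⟨w, hw, hwc⟩ := d.fr.co_surj 2 (by norm_num)
    refine ⟨w * c, (d.fr.es.comm w hw).mul_left hc, ?_⟩
    calc w * c * q * (w * c)⁻¹ = w * (c * q * c⁻¹) * w⁻¹ := by group
      _ = (w * x * w⁻¹) * (w * z * w⁻¹) := by rw [e]; group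
      _ = x := by
        rw [d.xz_conj hw hwc, mul_inv_eq_iff_eq_mul.2 (d.fr.es.comm w hw).eq, mul_assoc, d.fr.es.sq,
          mul_one]

theorem isConj_Q {q : G} (hq : q ∈ Q) (hq2 : orderOf q = 2) : IsConj z q := by
  have h1 : q * q = 1 := by rw [← pow_two, ← hq2, pow_orderOf_eq_one]
  have hs : qn (co q) = false := by
    have e := d.fr.sq q hq
    rw [h1] at e
    cases h : qn (co q) with
    | false => rfl
    | true => rw [h] at e; exact absurd e.symm d.fr.es.ne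
  by_cases h0 : co q = 0
  · rcases d.fr.co_zero q hq h0 with rfl | rfl
    · simp at hq2
    · exact IsConj.refl q
  · obtain ⟨c, -, e⟩ := d.exists_to_x hq h0 hs
    exact d.isConj_x.trans (isConj_iff.2 ⟨c, e⟩).symm

theorem isConj_B {u : G} (hu : InB Q n z u) (hu2 : orderOf u = 2) : IsConj z u := by
  have e : IsConj (n⁻¹ * u * n) u := isConj_iff.2 ⟨n, by group⟩
  refine (d.isConj_Q hu.1 ?_).trans e
  rw [← hu2]
  obtain ⟨c, hc⟩ := isConj_iff.1 e
  exact (orderOf_injective (MulAut.conj c).toMonoidHom (MulAut.conj c).injective _).symm.trans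
    (by simp [hc])

theorem ac_B_inv {u : G} {a k : ℕ} (ha : a ∈ v4) (hu : InB Q n z u) (h : Act ac u a) (hk : k < 64) :
    ac u⁻¹ k = eich a k := by
  conv_lhs => rw [← eich_self ha hk]
  rw [← h _ (eich_lt ha hk), d.fr.ac_inv hu.2 (eich_lt ha hk)]

theorem form_commute {t : G} {a v : ℕ} (h : Form Q co ac n z t a v) :
    Commute t z ∧ ∀ k < 64, ac t k = eich a k := by
  obtain ⟨u, r, hu, hua, hr, -, rfl⟩ := h
  refine ⟨hu.2.mul_left (d.A_comm hr).2, fun k hk => ?_⟩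
  rw [d.fr.ac_mul hu.2 (d.A_comm hr).2 hk, d.fr.ac_Q hr.1 hk, hua k hk]

theorem form_sq {t : G} {a v : ℕ} (ha : a ∈ v4) (h : Form Q co ac n z t a v) :
    t * t = ee z x (Bool.xor (bn a v) (qn a)) (Bool.xor (bn a v) (qn v)) := by
  obtain ⟨u, r, hu, hua, hr, hrv, rfl⟩ := h
  have hlt := d.fr.co_lt r hr.1
  have hc := d.com_act a ha u r hu hua hr
  have e : u * r * (u * r) = u * com r u * u⁻¹ * ((u * u) * (r * r)) := by
    simp only [com]; group
  rw [e, hc, d.central_conj (d.B_comm hu).1 (d.B_comm hu).2, d.sq_act a ha u hu hua, d.fr.sq r hr.1,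
    ← qn_mask hlt hr.2, ← bn_mask ha hlt hr.2, hrv]
  exact d.ee_mul _ _ _ _

theorem form_shift {t q : G} {a v : ℕ} (ha : a ∈ v4) (h : Form Q co ac n z t a v) (hq : q ∈ Q)
    (hqc : co q = 2) : Form Q co ac n z (q * t * q⁻¹) a (v ^^^ a) := by
  obtain ⟨u, r, hu, hua, hr, hrv, rfl⟩ := h
  obtain ⟨h2, h3, h4⟩ := eich_two a ha
  have hm : u⁻¹ * q * u * q⁻¹ ∈ Q := by
    refine mul_mem ?_ (inv_mem hq)
    simpa using d.fr.norm u⁻¹ hu.2.inv_left q hq
  have hr' : q * r * q⁻¹ ∈ Q := d.fr.norm q (d.fr.es.comm q hq) r hr.1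
  have hcm : co (u⁻¹ * q * u * q⁻¹) = eich a 2 ^^^ 2 := by
    have e : co (u⁻¹ * q * u⁻¹⁻¹) = eich a 2 := by
      rw [d.fr.conj u⁻¹ hu.2.inv_left q hq, hqc, d.ac_B_inv ha hu hua (by norm_num)]
    rw [inv_inv] at e
    rw [d.fr.co_mul _ (by simpa using d.fr.norm u⁻¹ hu.2.inv_left q hq) _ (inv_mem hq), e,
      d.fr.co_inv hq, hqc]
  have hA : InA Q co (u⁻¹ * q * u * q⁻¹) := ⟨hm, by rw [hcm]; exact h4⟩
  have hA' : InA Q co (q * r * q⁻¹) := ⟨hr', by rw [d.fr.co_conjQ hq hr.1]; exact hr.2⟩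
  refine ⟨u, _, hu, hua, d.A_mul hA hA', ?_, by group⟩
  rw [d.fr.co_mul _ hm _ hr', hcm, d.fr.co_conjQ hq hr.1, xor_mask, h3, hrv, Nat.xor_comm]

theorem form_conj {t c : G} {p : ℕ × ℕ} {a v : ℕ} (hp : p ∈ pairs4) (ha : a ∈ v4) (hc : Commute c z)
    (hcx : Commute c x) (hck : ∀ k < 64, ac c k = pr p k) (h : Form Q co ac n z t a v) :
    Form Q co ac n z (c * t * c⁻¹) (pr p a) (pr p v) := by
  obtain ⟨u, r, hu, hua, hr, hrv, rfl⟩ := h
  obtain ⟨h1, h2⟩ := d.act_conj hp hc hcx hck hu ha hua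
  obtain ⟨-, -, g3, g4⟩ := pr_spec hp (d.fr.co_lt r hr.1)
  have hco : co (c * r * c⁻¹) = pr p (co r) := by
    rw [d.fr.conj c hc r hr.1, hck _ (d.fr.co_lt r hr.1)]
  refine ⟨_, c * r * c⁻¹, h1, h2, ⟨d.fr.norm c hc r hr.1, by rw [hco]; exact g3.trans hr.2⟩, ?_, by group⟩
  rw [hco, g4, hrv]

omit d in
theorem coset_aux : ∀ i j : Bool, ∀ k ∈ [32, 33],
    let v := (bif i then 32 else 0) ^^^ (bif Bool.xor i j then 16 else 0)
    v < 64 ∧ b1 v = false ∧ bn 16 v = i ∧ bn v k = Bool.xor i j := by decide +kernel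

/-- All products with parameters `16, 32` are conjugate under `Q ∩ C(x)`. -/
theorem form_unique {t t' : G} (h : Form Q co ac n z t 16 32) (h' : Form Q co ac n z t' 16 32) :
    ∃ w, InA Q co w ∧ w * t * w⁻¹ = t' := by
  obtain ⟨u, r, hu, hua, hr, hrv, rfl⟩ := h
  obtain ⟨u', r', hu', hua', hr', hrv', rfl⟩ := h'
  have h16 : (16 : ℕ) ∈ v4 := by decide
  obtain ⟨i, j, rfl⟩ := d.act_eq h16 hu hu' hua hua'
  have hm : r⁻¹ * r' ∈ Q := mul_mem (inv_mem hr.1) hr'.1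
  obtain ⟨i', j', e⟩ := d.exists_ee hm (by
    rw [d.fr.co_mul _ (inv_mem hr.1) _ hr'.1, d.fr.co_inv hr.1]
    rcases mask_cases (d.fr.co_lt r hr.1) hr.2 with e | e <;>
      rcases mask_cases (d.fr.co_lt r' hr'.1) hr'.2 with e' | e' <;>
      rw [hrv] at e <;> rw [hrv'] at e' <;> rw [e, e'] <;> decide)
  rw [inv_mul_eq_iff_eq_mul] at e
  subst e
  have hk : co r ∈ [32, 33] := by
    rcases mask_cases (d.fr.co_lt r hr.1) hr.2 with e | e <;> rw [hrv] at e <;> rw [e] <;> decide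
  obtain ⟨g1, g2, g3, g4⟩ := coset_aux (Bool.xor i i') (Bool.xor j j') (co r) hk
  generalize (bif Bool.xor i i' then 32 else 0) ^^^
    (bif Bool.xor (Bool.xor i i') (Bool.xor j j') then 16 else 0) = v at g1 g2 g3 g4
  obtain ⟨w, hw, hwv⟩ := d.fr.co_surj v g1
  have hwA : InA Q co w := ⟨hw, by rw [hwv]; exact g2⟩
  refine ⟨w, hwA, ?_⟩
  have hc := d.com_act 16 h16 u w hu hua hwA
  rw [hwv, g3] at hc
  have hq := d.fr.comm_Q hw hr.1
  rw [hwv, g4] at hq
  have hce : ∀ p q, Commute r (ee z x p q) := fun p q => d.ee_comm (d.A_comm hr).1 (d.A_comm hr).2 p q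
  have hue : ∀ p q, Commute u (ee z x p q) := fun p q => d.ee_comm (d.B_comm hu).1 (d.B_comm hu).2 p q
  have hz : pw z (Bool.xor (Bool.xor i i') (Bool.xor j j')) =
      ee z x false (Bool.xor (Bool.xor i i') (Bool.xor j j')) := (one_mul _).symm
  calc w * (u * r) * w⁻¹ = com w u * u * (w * r * w⁻¹) := by simp only [com]; group
    _ = u * r * (ee z x (Bool.xor i i') (Bool.xor i i') *
        ee z x false (Bool.xor (Bool.xor i i') (Bool.xor j j'))) := by
      rw [hc, hq, ← (hue _ _).eq, mul_assoc u, ← mul_assoc (ee z x _ _) r, ← (hce _ _).eq, hz]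
      group
    _ = u * r * (ee z x i j * ee z x i' j') := by
      rw [d.ee_mul, d.ee_mul, Bool.xor_false]
      congr 2
      cases i <;> cases i' <;> cases j <;> cases j' <;> rfl
    _ = u * ee z x i j * (r * ee z x i' j') := by
      rw [mul_assoc u r, ← mul_assoc r, (hce i j).eq]
      group

theorem exists_form : ∃ b, Form Q co ac n z b 16 32 ∧ b * b = 1 ∧ b ∉ Q := by
  have h16 : (16 : ℕ) ∈ v4 := by decide
  obtain ⟨u, hu, hua⟩ := d.lift 16 h16
  obtain ⟨r, hr, hrc⟩ := d.fr.co_surj 32 (by norm_num)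
  have hF : Form Q co ac n z (u * r) 16 32 :=
    ⟨u, r, hu, hua, ⟨hr, by rw [hrc]; rfl⟩, by rw [hrc]; rfl, rfl⟩
  refine ⟨_, hF, ?_, fun hm => ?_⟩
  · rw [d.form_sq h16 hF]
    exact d.ee_zero
  · have := (d.form_commute hF).2 2 (by norm_num)
    rw [d.fr.ac_Q hm (by norm_num)] at this
    exact absurd this (by decide)

/-- The involutions of `C(z)` outside `Q`. -/
theorem classify {t : G} (htz : Commute t z) (ht2 : t * t = 1) (htQ : t ∉ Q) :
    ∃ c, Commute c z ∧ (InB Q n z (c * t * c⁻¹) ∨ Form Q co ac n z (c * t * c⁻¹) 16 32) := by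
  have hinv : ∀ k < 64, ac t (ac t k) = k := fun k hk => by
    rw [← d.fr.ac_mul htz htz hk, ht2, d.fr.ac_Q (one_mem Q) hk]
  obtain ⟨c₀, hc₀, a, ha, ha0, hka⟩ := d.fr.exists_conj_eich htz hinv htQ
  set t₁ := c₀ * t * c₀⁻¹ with ht₁
  have ht₁z : Commute t₁ z := (hc₀.mul_left htz).mul_left hc₀.inv_left
  have ht₁2 : t₁ * t₁ = 1 := by
    calc t₁ * t₁ = c₀ * (t * t) * c₀⁻¹ := by rw [ht₁]; group
      _ = 1 := by rw [ht2]; group
  suffices key : ∃ c, Commute c z ∧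
      (InB Q n z (c * t₁ * c⁻¹) ∨ Form Q co ac n z (c * t₁ * c⁻¹) 16 32) by
    obtain ⟨c, hc, h⟩ := key
    refine ⟨c * c₀, hc.mul_left hc₀, ?_⟩
    rwa [show c * c₀ * t * (c * c₀)⁻¹ = c * t₁ * c⁻¹ by rw [ht₁]; group]
  obtain ⟨u, hu, hua⟩ := d.lift a ha
  set r := u⁻¹ * t₁ with hr
  have hrQ : r ∈ Q := d.fr.faithful r (hu.2.inv_left.mul_left ht₁z) fun k hk => by
    rw [d.fr.ac_mul hu.2.inv_left ht₁z hk, hka k hk, ← hua k hk, d.fr.ac_inv hu.2 hk]
  have htr : t₁ = u * r := by rw [hr]; group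
  have hsq : u * r * u⁻¹ * (u * u) * r = 1 := by
    rw [← ht₁2, htr]; group
  have huu : u * u = ee z x (qn a) false := (d.sq_act a ha u hu hua).trans (mul_one _).symm
  have hb : b1 (co r) = false := by
    have hl := d.fr.co_lt r hrQ
    refine eich_shift a ha ha0 _ hl ?_
    have e := congrArg co hsq
    rw [huu, d.fr.co_mul _ (mul_mem (d.fr.norm u hu.2 r hrQ) (d.ee_mem _ _)) r hrQ,
      d.fr.co_mul _ (d.fr.norm u hu.2 r hrQ) _ (d.ee_mem _ _), d.fr.conj u hu.2 r hrQ, hua _ hl,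
      d.co_ee, d.fr.co_one] at e
    rw [Nat.xor_assoc, Nat.xor_comm (co r), ← Nat.xor_assoc]
    exact e
  have hv := mem_v4 (d.fr.co_lt r hrQ)
  set v := co r &&& 60 with hvdef
  have hF : Form Q co ac n z t₁ a v := ⟨u, r, hu, hua, ⟨hrQ, hb⟩, hvdef.symm, htr⟩
  have he := d.form_sq ha hF
  rw [ht₁2, ← d.ee_zero] at he
  obtain ⟨e1, e2⟩ := d.ee_inj he
  obtain ⟨q, hq, hqc⟩ := d.fr.co_surj 2 (by norm_num)
  have hqz := d.fr.es.comm q hq
  cases hqa : qn a with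
  | false =>
    have hB : ∀ {t : G}, Form Q co ac n z t a 0 → InB Q n z t := by
      rintro t ⟨u', r', hu', hua', hr', hrv', rfl⟩
      obtain ⟨i, j, e⟩ := d.exists_ee hr'.1 (by
        rcases mask_cases (d.fr.co_lt r' hr'.1) hr'.2 with e | e <;> rw [hrv'] at e
        · exact Or.inl e
        · exact Or.inr e)
      rw [e]
      exact ⟨d.P_mul hu'.1 (d.ee_inB i j).1, hu'.2.mul_left (d.ee_inB i j).2⟩
    rw [hqa, Bool.xor_false] at e1
    rw [← e1, Bool.false_xor] at e2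
    rcases plane_cases a ha v hv ha0 hqa e2.symm e1.symm with e | e
    · exact ⟨1, Commute.one_left z, Or.inl (by
        rw [inv_one, mul_one, one_mul]
        exact hB (e ▸ hF))⟩
    · refine ⟨q, hqz, Or.inl (hB ?_)⟩
      have := d.form_shift ha hF hq hqc
      rwa [e, Nat.xor_self] at this
  | true =>
    obtain ⟨p, hp, hpa⟩ := ns_trans a (mem_ns4 a ha hqa)
    obtain ⟨c, hc, hcx, hck⟩ := d.exists_prE hp
    have hF1 := d.form_conj hp ha hc hcx hck hF
    rw [hpa] at hF1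
    have hbn : bn a v = true := by
      revert e1; rw [hqa]; cases bn a v <;> decide
    have hqv : qn v = true := by
      revert e2; rw [hbn]; cases qn v <;> decide
    have hv1 := pr_v4 hp hv
    have hvl := (lt_of_mem_v4 v hv).1
    have hal := (lt_of_mem_v4 a ha).1
    have hpiso := (refl_iso (mem_pairs4 hp).1).comp (refl_iso (mem_pairs4 hp).2)
    have hq1 : qn (pr p v) = true := (hpiso.pres v hvl).trans hqv
    have hb1' : bn 16 (pr p v) = true := by
      rw [← hpa]; exact (hpiso.bn_eq hal hvl).trans hbn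
    obtain ⟨p', hp', hp16, hpv⟩ := pair_trans _ hv1 hq1 hb1'
    obtain ⟨c', hc', hcx', hck'⟩ := d.exists_prE hp'
    have hF2 := d.form_conj hp' (show (16 : ℕ) ∈ v4 by decide) hc' hcx' hck' hF1
    rw [hp16] at hF2
    rcases hpv with e | e <;> rw [e] at hF2
    · exact ⟨c' * c, hc'.mul_left hc, Or.inr (by
        rwa [show c' * c * t₁ * (c' * c)⁻¹ = c' * (c * t₁ * c⁻¹) * c'⁻¹ by group])⟩
    · refine ⟨q * (c' * c), hqz.mul_left (hc'.mul_left hc), Or.inr ?_⟩
      have := d.form_shift (show (16 : ℕ) ∈ v4 by decide) hF2 hq hqc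
      rwa [show q * (c' * c) * t₁ * (q * (c' * c))⁻¹ = q * (c' * (c * t₁ * c⁻¹) * c'⁻¹) * q⁻¹ by group]

end Duo

end Cfsg.Agent.Lib.SuzType52
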