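import Mathlib

/-!
# Suzuki type: computations in the elliptic quadratic space of dimension six over two elements

A vector is a number below `64`; bits `0, 1` and `2, 3` are hyperbolic pairs and bits `4, 5` span the
anisotropic plane. The vector `1` is the distinguished singular point, `2` its partner, and the
multiples of four are the elliptic quadric of dimension four.

Owner: helper52.
-/

set_option autoImplicit false
set_option maxRecDepth 100000

namespace Cfsg.Agent.Lib.SuzType52

/-- The quadratic form. -/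
def qn (k : ℕ) : Bool :=
  Bool.xor (Bool.xor (Nat.beq (k &&& 3) 3) (Nat.beq (k &&& 12) 12)) (!(Nat.beq (k &&& 48) 0))

/-- The bilinear form. -/
def bn (j k : ℕ) : Bool := Bool.xor (Bool.xor (qn (j ^^^ k)) (qn j)) (qn k)

/-- The coefficient at the partner of the distinguished point. -/
def b1 (k : ℕ) : Bool := Nat.beq (k &&& 2) 2

/-- The reflection in a non-singular vector. -/
def refl (v k : ℕ) : ℕ := bif bn v k then k ^^^ v else k

/-- The transvection along the distinguished point with parameter `a`. -/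
def eich (a k : ℕ) : ℕ :=
  (k ^^^ (bif b1 k then a else 0)) ^^^ (bif Bool.xor (bn a k) (b1 k && qn a) then 1 else 0)

/-- A product of two reflections. -/
def pr (p : ℕ × ℕ) (k : ℕ) : ℕ := refl p.1 (refl p.2 k)

/-- The linear map with the given images of the six unit vectors. -/
def lin (g1 g2 g4 g8 g16 g32 k : ℕ) : ℕ :=
  (bif Nat.beq (k &&& 1) 1 then g1 else 0) ^^^ (bif Nat.beq (k &&& 2) 2 then g2 else 0) ^^^
    (bif Nat.beq (k &&& 4) 4 then g4 else 0) ^^^ (bif Nat.beq (k &&& 8) 8 then g8 else 0) ^^^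
    (bif Nat.beq (k &&& 16) 16 then g16 else 0) ^^^ (bif Nat.beq (k &&& 32) 32 then g32 else 0)

/-- The non-singular vectors of the small space. -/
def ns4 : List ℕ := [12, 16, 20, 24, 32, 36, 40, 48, 52, 56]

/-- The small space. -/
def v4 : List ℕ := [0, 4, 8, 12, 16, 20, 24, 28, 32, 36, 40, 44, 48, 52, 56, 60]

/-- The pairs of non-singular vectors of the small space. -/
def pairs4 : List (ℕ × ℕ) := ns4.flatMap fun p => ns4.map fun q => (p, q)

theorem mem_v4 {k : ℕ} (hk : k < 64) : k &&& 60 ∈ v4 := by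
  revert k; decide +kernel

theorem lt_of_mem_v4 : ∀ a ∈ v4, a < 64 ∧ a &&& 60 = a ∧ b1 a = false := by decide +kernel

theorem ns4_spec : ∀ p ∈ ns4, p < 64 ∧ qn p = true ∧ p ∈ v4 := by decide +kernel

theorem mem_ns4 : ∀ a ∈ v4, qn a = true → a ∈ ns4 := by decide +kernel

theorem mem_pairs4 {p : ℕ × ℕ} (h : p ∈ pairs4) : p.1 ∈ ns4 ∧ p.2 ∈ ns4 := by
  simp only [pairs4, List.mem_flatMap, List.mem_map] at h
  obtain ⟨a, ha, b, hb, rfl⟩ := h
  exact ⟨ha, hb⟩

theorem xor_lt {j k : ℕ} (hj : j < 64) (hk : k < 64) : j ^^^ k < 64 :=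
  Nat.xor_lt_two_pow (n := 6) hj hk

theorem lin_self {k : ℕ} (hk : k < 64) : lin 1 2 4 8 16 32 k = k := by
  revert k; decide +kernel

theorem qn_mask {k : ℕ} (hk : k < 64) (h : b1 k = false) : qn (k &&& 60) = qn k := by
  revert k; decide +kernel

theorem mask_cases {k : ℕ} (hk : k < 64) (h : b1 k = false) :
    k = k &&& 60 ∨ k = (k &&& 60) ^^^ 1 := by
  revert k; decide +kernel

theorem b1_eq {k : ℕ} (hk : k < 64) : bn k 1 = b1 k := by revert k; decide +kernel

theorem bn_mask_aux : (List.range 64).all (fun k => v4.all fun a =>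
    b1 k || bn a k == bn a (k &&& 60)) = true := by decide +kernel

theorem bn_mask {a k : ℕ} (ha : a ∈ v4) (hk : k < 64) (h : b1 k = false) :
    bn a (k &&& 60) = bn a k := by
  have := List.all_eq_true.1 (List.all_eq_true.1 bn_mask_aux k (List.mem_range.2 hk)) a ha
  rw [h, Bool.false_or, beq_iff_eq] at this
  exact this.symm

theorem bn_comm (j k : ℕ) : bn j k = bn k j := by
  rw [bn, bn, Nat.xor_comm, Bool.xor_assoc, Bool.xor_comm (qn j), Bool.xor_assoc]

/-- The parity of the six bits. -/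
def par (k : ℕ) : Bool :=
  Bool.xor (Bool.xor (Bool.xor (k.testBit 0) (k.testBit 1)) (Bool.xor (k.testBit 2) (k.testBit 3)))
    (Bool.xor (k.testBit 4) (k.testBit 5))

/-- Exchange of the partners. -/
def swp (k : ℕ) : ℕ := 2 * (k &&& 21) + (k &&& 42) / 2

theorem bn_par_aux : (List.range 64).all (fun j => (List.range 64).all fun k =>
    bn j k == par (swp j &&& k)) = true := by decide +kernel

theorem bn_par {j k : ℕ} (hj : j < 64) (hk : k < 64) : bn j k = par (swp j &&& k) := by
  have := List.all_eq_true.1 (List.all_eq_true.1 bn_par_aux j (List.mem_range.2 hj)) k (List.mem_range.2 hk)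
  exact beq_iff_eq.1 this

theorem par_xor (j k : ℕ) : par (j ^^^ k) = Bool.xor (par j) (par k) := by
  have key : ∀ a b c d : Bool, Bool.xor (Bool.xor a b) (Bool.xor c d) = Bool.xor (Bool.xor a c) (Bool.xor b d) := by
    decide
  simp only [par, Nat.testBit_xor, key]

theorem bn_add {a j k : ℕ} (ha : a < 64) (hj : j < 64) (hk : k < 64) :
    bn a (j ^^^ k) = Bool.xor (bn a j) (bn a k) := by
  rw [bn_par ha (xor_lt hj hk), bn_par ha hj, bn_par ha hk, Nat.and_xor_distrib_left, par_xor]

/-- The form is quadratic. -/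
theorem qn_three {a b c : ℕ} (ha : a < 64) (hb : b < 64) (hc : c < 64) :
    qn (a ^^^ (b ^^^ c)) = Bool.xor (qn (a ^^^ b)) (Bool.xor (qn (a ^^^ c)) (Bool.xor (qn (b ^^^ c))
      (Bool.xor (qn a) (Bool.xor (qn b) (qn c))))) := by
  have h := bn_add ha hb hc
  simp only [bn] at h
  revert h
  cases qn (a ^^^ (b ^^^ c)) <;> cases qn (a ^^^ b) <;> cases qn (a ^^^ c) <;> cases qn (b ^^^ c) <;>
    cases qn a <;> cases qn b <;> cases qn c <;> decide

theorem eich_zero {k : ℕ} (hk : k < 64) : eich 0 k = k := by revert k; decide +kernel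

theorem eich_lt_aux : v4.all (fun a => (List.range 64).all fun k => decide (eich a k < 64)) = true := by
  decide +kernel

theorem eich_lt {a k : ℕ} (ha : a ∈ v4) (hk : k < 64) : eich a k < 64 :=
  of_decide_eq_true (List.all_eq_true.1 (List.all_eq_true.1 eich_lt_aux a ha) k (List.mem_range.2 hk))

theorem eich_mul_aux : v4.all (fun a => v4.all fun b => (List.range 64).all fun k =>
    Nat.beq (eich a (eich b k)) (eich (a ^^^ b) k)) = true := by decide +kernel

theorem eich_mul {a b k : ℕ} (ha : a ∈ v4) (hb : b ∈ v4) (hk : k < 64) :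
    eich a (eich b k) = eich (a ^^^ b) k :=
  Nat.eq_of_beq_eq_true (List.all_eq_true.1 (List.all_eq_true.1
    (List.all_eq_true.1 eich_mul_aux a ha) b hb) k (List.mem_range.2 hk))

theorem lin_eich_aux : v4.all (fun a => (List.range 64).all fun k =>
    Nat.beq (lin (eich a 1) (eich a 2) (eich a 4) (eich a 8) (eich a 16) (eich a 32) k) (eich a k)) =
    true := by decide +kernel

theorem lin_eich_aux' {a k : ℕ} (ha : a ∈ v4) (hk : k < 64) :
    lin (eich a 1) (eich a 2) (eich a 4) (eich a 8) (eich a 16) (eich a 32) k = eich a k :=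
  Nat.eq_of_beq_eq_true (List.all_eq_true.1 (List.all_eq_true.1 lin_eich_aux a ha) k (List.mem_range.2 hk))

theorem eich_self {a k : ℕ} (ha : a ∈ v4) (hk : k < 64) : eich a (eich a k) = k := by
  rw [eich_mul ha ha hk, Nat.xor_self, eich_zero hk]

theorem v4_xor : ∀ a ∈ v4, ∀ b ∈ v4, a ^^^ b ∈ v4 := by decide +kernel

theorem eich_two : ∀ a ∈ v4, eich a 2 ^^^ 2 < 64 ∧ (eich a 2 ^^^ 2) &&& 60 = a ∧
    b1 (eich a 2 ^^^ 2) = false := by decide +kernel

theorem eich_inj {a b : ℕ} (ha : a ∈ v4) (hb : b ∈ v4) (h : ∀ k < 64, eich a k = eich b k) : a = b := by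
  have := h 2 (by norm_num)
  rw [← (eich_two a ha).2.1, ← (eich_two b hb).2.1, this]

theorem eich_trivial_aux : v4.all (fun a => (List.range 64).all fun k =>
    b1 k || Nat.beq (eich a k) (bif bn a k then k ^^^ 1 else k)) = true := by decide +kernel

theorem eich_trivial {a k : ℕ} (ha : a ∈ v4) (hk : k < 64) (h : b1 k = false) :
    eich a k = bif bn a k then k ^^^ 1 else k := by
  have := List.all_eq_true.1 (List.all_eq_true.1 eich_trivial_aux a ha) k (List.mem_range.2 hk)
  rw [h, Bool.false_or] at this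
  exact Nat.eq_of_beq_eq_true this

theorem refl_eich_aux : ns4.all (fun p => v4.all fun a => (List.range 64).all fun k =>
    Nat.beq (refl p (eich a k)) (eich (refl p a) (refl p k))) = true := by decide +kernel

theorem refl_spec_aux : ns4.all (fun p => (List.range 64).all fun k =>
    (decide (refl p k < 64) && Nat.beq (refl p (refl p k)) k && qn (refl p k) == qn k &&
      b1 (refl p k) == b1 k && Nat.beq (refl p k &&& 60) (refl p (k &&& 60)))) = true := by
  decide +kernel

theorem refl_spec {p k : ℕ} (hp : p ∈ ns4) (hk : k < 64) : refl p k < 64 ∧ refl p (refl p k) = k ∧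
    qn (refl p k) = qn k ∧ b1 (refl p k) = b1 k ∧ refl p k &&& 60 = refl p (k &&& 60) := by
  have := List.all_eq_true.1 (List.all_eq_true.1 refl_spec_aux p hp) k (List.mem_range.2 hk)
  simp only [Bool.and_eq_true, decide_eq_true_eq, beq_iff_eq] at this
  obtain ⟨⟨⟨⟨h1, h2⟩, h3⟩, h4⟩, h5⟩ := this
  exact ⟨h1, Nat.eq_of_beq_eq_true h2, h3, h4, Nat.eq_of_beq_eq_true h5⟩

theorem refl_v4 : ∀ p ∈ ns4, ∀ a ∈ v4, refl p a ∈ v4 := by decide +kernel

theorem refl_xor_aux : ns4.all (fun p => (List.range 64).all fun j => (List.range 64).all fun k =>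
    Nat.beq (refl p (j ^^^ k)) (refl p j ^^^ refl p k)) = true := by decide +kernel

theorem refl_xor {p j k : ℕ} (hp : p ∈ ns4) (hj : j < 64) (hk : k < 64) :
    refl p (j ^^^ k) = refl p j ^^^ refl p k :=
  Nat.eq_of_beq_eq_true (List.all_eq_true.1 (List.all_eq_true.1
    (List.all_eq_true.1 refl_xor_aux p hp) j (List.mem_range.2 hj)) k (List.mem_range.2 hk))

theorem eich_pr : ∀ a ∈ ns4, a ^^^ 1 < 64 ∧ qn (a ^^^ 1) = true ∧
    ∀ k < 64, eich a k = pr (a, a ^^^ 1) k := by decide +kernel

theorem refl_one : ∀ p ∈ ns4, refl p 1 = 1 := by decide +kernel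

theorem refl_eich {p a k : ℕ} (hp : p ∈ ns4) (ha : a ∈ v4) (hk : k < 64) :
    refl p (eich a k) = eich (refl p a) (refl p k) :=
  Nat.eq_of_beq_eq_true (List.all_eq_true.1 (List.all_eq_true.1
    (List.all_eq_true.1 refl_eich_aux p hp) a ha) k (List.mem_range.2 hk))

theorem pr_spec {p : ℕ × ℕ} {k : ℕ} (hp : p ∈ pairs4) (hk : k < 64) : pr p k < 64 ∧
    qn (pr p k) = qn k ∧ b1 (pr p k) = b1 k ∧ pr p k &&& 60 = pr p (k &&& 60) := by
  obtain ⟨h1, h2⟩ := mem_pairs4 hp
  obtain ⟨a1, -, a3, a4, a5⟩ := refl_spec h2 hk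
  obtain ⟨c1, -, c3, c4, c5⟩ := refl_spec h1 a1
  exact ⟨c1, c3.trans a3, c4.trans a4, c5.trans (congrArg (refl p.1) a5)⟩

theorem pr_v4 {p : ℕ × ℕ} {a : ℕ} (hp : p ∈ pairs4) (ha : a ∈ v4) : pr p a ∈ v4 :=
  refl_v4 _ (mem_pairs4 hp).1 _ (refl_v4 _ (mem_pairs4 hp).2 _ ha)

theorem pr_one {p : ℕ × ℕ} (hp : p ∈ pairs4) : pr p 1 = 1 := by
  rw [pr, refl_one _ (mem_pairs4 hp).2, refl_one _ (mem_pairs4 hp).1]

theorem pr_eich {p : ℕ × ℕ} {a k : ℕ} (hp : p ∈ pairs4) (ha : a ∈ v4) (hk : k < 64) :
    pr p (eich a k) = eich (pr p a) (pr p k) := by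
  obtain ⟨h1, h2⟩ := mem_pairs4 hp
  rw [pr, refl_eich h2 ha hk, refl_eich h1 (refl_v4 _ h2 _ ha) (refl_spec h2 hk).1]
  rfl

/-- The singular vectors are one orbit. -/
theorem sing_trans : ∀ k < 64, k ≠ 0 → qn k = false →
    ∃ v < 64, ∃ w < 64, qn v = true ∧ qn w = true ∧ pr (v, w) k = 1 := by decide +kernel

/-- The number of singular points is odd. -/
theorem card_sing : ((List.range 64).filter fun k => !(qn k) && !(Nat.beq k 0)).length = 27 := by
  decide +kernel

theorem sing_moved : ∀ a ∈ v4, a ≠ 0 → qn a = false → ∃ p ∈ pairs4, bn (pr p a) a = true := by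
  decide +kernel

theorem orbit_sum : ∀ a ∈ v4, a ≠ 0 → ∀ e ∈ [4, 8, 16, 32],
    ∃ p ∈ pairs4, e = pr p a ∨ ∃ q ∈ pairs4, e = pr p a ^^^ pr q a := by decide +kernel

theorem ns_trans : ∀ a ∈ ns4, ∃ p ∈ pairs4, pr p a = 16 := by decide +kernel

theorem sg_trans : ∀ a ∈ v4, a ≠ 0 → qn a = false → ∃ p ∈ pairs4, pr p a = 4 := by decide +kernel

theorem pair_trans : ∀ b ∈ v4, qn b = true → bn 16 b = true →
    ∃ p ∈ pairs4, pr p 16 = 16 ∧ (pr p b = 32 ∨ pr p b = 48) := by decide +kernel

theorem sing_split : ∀ a ∈ v4, qn a = false → a = 0 ∨ ∃ c ∈ ns4, ∃ d ∈ ns4, a = c ^^^ d := by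
  decide +kernel

/-- A functional on the small space fixed by the stabiliser of `16` is a multiple of `bn 16`. -/
theorem functional_aux : [0, 1].all (fun a => [0, 1].all fun b => [0, 1].all fun c => [0, 1].all fun d =>
    let φ := fun v => Nat.beq ((bif Nat.beq (v &&& 4) 4 then a else 0) ^^^
      (bif Nat.beq (v &&& 8) 8 then b else 0) ^^^ (bif Nat.beq (v &&& 16) 16 then c else 0) ^^^
      (bif Nat.beq (v &&& 32) 32 then d else 0)) 1
    pairs4.any (fun p => Nat.beq (pr p 16) 16 && v4.any fun v => !(φ (pr p v) == φ v)) ||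
      v4.all (fun v => φ v == false) || v4.all (fun v => φ v == bn 16 v)) = true := by decide +kernel

theorem eich_shift : ∀ a ∈ v4, a ≠ 0 → ∀ k < 64,
    eich a k ^^^ k ^^^ (bif qn a then 1 else 0) = 0 → b1 k = false := by decide +kernel

theorem eich_inv16 : qn (eich 16 2 ^^^ 2) = true := by decide +kernel

theorem eich_sing : ∀ a ∈ v4, qn a = false → ∀ k < 64, qn (eich a k ^^^ k) = false := by decide +kernel

theorem plane_cases : ∀ a ∈ v4, ∀ b ∈ v4, a ≠ 0 → qn a = false → qn b = false → bn a b = false →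
    b = 0 ∨ b = a := by decide +kernel

theorem image16 : ∀ k < 64, qn (eich 16 k ^^^ k) = false → eich 16 k ^^^ k = 0 ∨ eich 16 k ^^^ k = 1 := by
  decide +kernel

theorem image16' : ∀ k < 64, qn (eich 16 k ^^^ k) = true → eich 16 k ^^^ k = 16 ∨ eich 16 k ^^^ k = 17 := by
  decide +kernel

/-- Isometries fixing the point and trivial on its perpendicular modulo it. -/
theorem rad_aux : (List.range 16).all (fun i => (List.range 64).all fun g2 =>
    let g4 := 4 ^^^ (i &&& 1)
    let g8 := 8 ^^^ ((i >>> 1) &&& 1)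
    let g16 := 16 ^^^ ((i >>> 2) &&& 1)
    let g32 := 32 ^^^ ((i >>> 3) &&& 1)
    !(qn g2 == false && bn 1 g2 == true && bn g4 g2 == false && bn g8 g2 == false &&
        bn g16 g2 == false && bn g32 g2 == false) ||
      ([1, 2, 4, 8, 16, 32].all fun k => Nat.beq (lin 1 g2 g4 g8 g16 g32 k) (eich (g2 &&& 60) k))) =
    true := by decide +kernel

/-- Involutive isometries of the small space. -/
theorem inv4_aux : v4.all (fun t4 => v4.all fun t8 =>
    !(qn t4 == false && qn t8 == false && bn t4 t8) || v4.all fun t16 =>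
    !(qn t16 && !(bn t4 t16) && !(bn t8 t16)) || v4.all fun t32 =>
    !(qn t32 && !(bn t4 t32) && !(bn t8 t32) && bn t16 t32) ||
    !([(4, t4), (8, t8), (16, t16), (32, t32)].all fun e => Nat.beq (lin 1 2 t4 t8 t16 t32 e.2) e.1) ||
    ([4, 8, 16, 32].all fun k => Nat.beq (lin 1 2 t4 t8 t16 t32 k) k) ||
    (ns4.any fun p => [4, 8, 16, 32].all fun k => Nat.beq (lin 1 2 t4 t8 t16 t32 k) (refl p k)) ||
    (pairs4.any fun p => [4, 8, 16, 32].all fun k => Nat.beq (lin 1 2 t4 t8 t16 t32 k) (pr p k))) =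
    true := by decide +kernel

/-- An involution of the form (two reflections)(transvection) is central in some radical. -/
theorem rad_point_aux : v4.all (fun d => pairs4.all fun p =>
    !((List.range 64).all fun k => Nat.beq (pr p (eich d (pr p (eich d k)))) k) ||
    (List.range 64).any fun s => !(Nat.beq s 0) && !(qn s) &&
      (List.range 64).all fun k => bn k s ||
        Nat.beq (pr p (eich d k)) k || Nat.beq (pr p (eich d k)) (k ^^^ s)) = true := by decide +kernel

/-- The four maps of the small space fixing `16` and the functional `bn 32` on its perpendicular. -/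
def tw (i k : ℕ) : ℕ :=
  (bif Nat.beq (i &&& 1) 1 then refl 16 else id) ((bif Nat.beq (i &&& 2) 2 then refl 12 else id) k)

/-- A candidate of the centraliser group. -/
def wn (i a k : ℕ) : ℕ := tw i (eich a k)

theorem tw_aux : v4.all (fun t4 =>
    !(qn t4 == false && !(bn t4 16) && !(bn t4 32)) || v4.all fun t8 =>
    !(qn t8 == false && !(bn t8 16) && !(bn t8 32) && bn t4 t8) || v4.all fun t32 =>
    !(qn t32 && !(bn t4 t32) && !(bn t8 t32) && bn 16 t32) ||
    (List.range 4).any fun i => [4, 8, 16, 32].all fun k =>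
      Nat.beq (lin 1 2 t4 t8 16 t32 k) (tw i k)) = true := by decide +kernel

theorem comm_aux : (List.range 4).all (fun i => v4.all fun a => (List.range 4).all fun j =>
    v4.all fun b => [0, 12, 16, 28].any fun c => [1, 2, 4, 8, 16, 32].all fun k =>
      Nat.beq (wn i a (wn j b k)) (eich c (wn j b (wn i a k)))) = true := by decide +kernel

theorem central_aux : (List.range 4).all (fun i => v4.all fun a => [0, 12, 16, 28].all fun c =>
    (List.range 64).all fun k => Nat.beq (wn i a (eich c k)) (eich c (wn i a k))) = true := by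
  decide +kernel

end Cfsg.Agent.Lib.SuzType52
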