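import Mathlib
import Cfsg.Agent.Lib.SuzType52.Space
import Cfsg.Agent.Lib.LargeExtraspecial.Basic

/-!
# Suzuki type: the centraliser of `z` acting on the coded quotient `Q / Z(Q)`

Owner: helper52.
-/

set_option autoImplicit false

namespace Cfsg.Agent.Lib.SuzType52

open Cfsg.Agent.Lib.LargeExtraspecial.Basic

variable {G : Type*} [Group G]

/-- `g` or `1`. -/
def pw (g : G) (b : Bool) : G := bif b then g else 1

theorem pw_mul {g : G} (h : g * g = 1) (a b : Bool) : pw g a * pw g b = pw g (Bool.xor a b) := by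
  cases a <;> cases b <;> simp [pw, h]

/-- An additive map of the coded space preserving the form. -/
structure Iso6 (f : ℕ → ℕ) : Prop where
  lt : ∀ k < 64, f k < 64
  add : ∀ j < 64, ∀ k < 64, f (j ^^^ k) = f j ^^^ f k
  pres : ∀ k < 64, qn (f k) = qn k

namespace Iso6

variable {f : ℕ → ℕ} (hf : Iso6 f)
include hf

theorem bn_eq {j k : ℕ} (hj : j < 64) (hk : k < 64) : bn (f j) (f k) = bn j k := by
  rw [bn, ← hf.add j hj k hk, hf.pres _ (xor_lt hj hk), hf.pres j hj, hf.pres k hk]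
  rfl

theorem zero : f 0 = 0 := by
  have := hf.add 0 (by norm_num) 0 (by norm_num)
  rwa [Nat.xor_self, Nat.xor_self] at this

theorem lin_eq {k : ℕ} (hk : k < 64) : lin (f 1) (f 2) (f 4) (f 8) (f 16) (f 32) k = f k := by
  conv_rhs => rw [← lin_self hk]
  have hb : ∀ (b : Bool) (g : ℕ), g < 64 → (bif b then g else 0) < 64 := fun b g hg => by
    cases b
    · exact Nat.zero_lt_succ _
    · exact hg
  have hcond : ∀ (b : Bool) (g : ℕ), f (bif b then g else 0) = bif b then f g else 0 := fun b g => by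
    cases b
    · exact hf.zero
    · rfl
  simp only [lin]
  rw [hf.add _ (xor_lt (xor_lt (xor_lt (xor_lt (hb _ _ (by norm_num)) (hb _ _ (by norm_num)))
      (hb _ _ (by norm_num))) (hb _ _ (by norm_num))) (hb _ _ (by norm_num))) _ (hb _ _ (by norm_num)),
    hf.add _ (xor_lt (xor_lt (xor_lt (hb _ _ (by norm_num)) (hb _ _ (by norm_num)))
      (hb _ _ (by norm_num))) (hb _ _ (by norm_num))) _ (hb _ _ (by norm_num)),
    hf.add _ (xor_lt (xor_lt (hb _ _ (by norm_num)) (hb _ _ (by norm_num)))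
      (hb _ _ (by norm_num))) _ (hb _ _ (by norm_num)),
    hf.add _ (xor_lt (hb _ _ (by norm_num)) (hb _ _ (by norm_num))) _ (hb _ _ (by norm_num)),
    hf.add _ (hb _ _ (by norm_num)) _ (hb _ _ (by norm_num))]
  simp only [hcond]

theorem b1_eq' (h1 : f 1 = 1) {k : ℕ} (hk : k < 64) : b1 (f k) = b1 k := by
  rw [← b1_eq (hf.lt k hk), ← h1, hf.bn_eq hk (by norm_num), b1_eq hk]

/-- A map trivial on the perpendicular of the point modulo the point is a transvection. -/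
theorem eich_of_radical (h1 : f 1 = 1)
    (htr : ∀ k < 64, b1 k = false → f k = k ∨ f k = k ^^^ 1) :
    ∃ a ∈ v4, ∀ k < 64, f k = eich a k := by
  have ex : ∀ k < 64, b1 k = false → ∃ e < 2, f k = k ^^^ e := fun k hk hb => by
    rcases htr k hk hb with e | e
    · exact ⟨0, by norm_num, e.trans (Nat.xor_zero k).symm⟩
    · exact ⟨1, by norm_num, e⟩
  obtain ⟨e4, he4, f4⟩ := ex 4 (by norm_num) (by decide)
  obtain ⟨e8, he8, f8⟩ := ex 8 (by norm_num) (by decide)
  obtain ⟨e16, he16, f16⟩ := ex 16 (by norm_num) (by decide)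
  obtain ⟨e32, he32, f32⟩ := ex 32 (by norm_num) (by decide)
  set i := e4 + 2 * e8 + 4 * e16 + 8 * e32 with hi
  have hbits : ∀ a < 2, ∀ b < 2, ∀ p < 2, ∀ q < 2, (a + 2 * b + 4 * p + 8 * q) &&& 1 = a ∧
      ((a + 2 * b + 4 * p + 8 * q) >>> 1) &&& 1 = b ∧ ((a + 2 * b + 4 * p + 8 * q) >>> 2) &&& 1 = p ∧
      ((a + 2 * b + 4 * p + 8 * q) >>> 3) &&& 1 = q := by decide
  obtain ⟨i1, i2, i3, i4⟩ := hbits e4 he4 e8 he8 e16 he16 e32 he32
  have key := List.all_eq_true.1 (List.all_eq_true.1 rad_aux i (List.mem_range.2 (by omega)))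
    (f 2) (List.mem_range.2 (hf.lt 2 (by norm_num)))
  have q2 : qn (f 2) = false := by rw [hf.pres 2 (by norm_num)]; decide
  have b12 : bn 1 (f 2) = true := by
    rw [← h1, hf.bn_eq (by norm_num) (by norm_num)]; decide
  have bj : ∀ j, j ∈ [4, 8, 16, 32] → bn (f j) (f 2) = false := by
    intro j hj
    have hj' : j < 64 ∧ bn j 2 = false := by
      revert j; decide
    rw [hf.bn_eq hj'.1 (by norm_num)]
    exact hj'.2
  simp only [hi] at key
  rw [i1, i2, i3, i4, ← f4, ← f8, ← f16, ← f32, q2, b12, bj 4 (by simp), bj 8 (by simp),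
    bj 16 (by simp), bj 32 (by simp)] at key
  simp only [BEq.rfl, Bool.and_self, Bool.not_true, Bool.false_or, List.all_cons, List.all_nil,
    Bool.and_true, Bool.and_eq_true] at key
  obtain ⟨k1, k2, k4, k8, k16, k32⟩ := key
  have hva : f 2 &&& 60 ∈ v4 := mem_v4 (hf.lt 2 (by norm_num))
  refine ⟨_, hva, fun k hk => ?_⟩
  have e : ∀ j, Nat.beq (lin 1 (f 2) (f 4) (f 8) (f 16) (f 32) j)
      (eich (f 2 &&& 60) j) = true → j < 64 → f j = eich (f 2 &&& 60) j := fun j hj hj' => by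
    rw [← Nat.eq_of_beq_eq_true hj, ← hf.lin_eq hj', h1]
  have e1 := e 1 k1 (by norm_num)
  have e2 := e 2 k2 (by norm_num)
  have e4' := e 4 k4 (by norm_num)
  have e8' := e 8 k8 (by norm_num)
  have e16' := e 16 k16 (by norm_num)
  have e32' := e 32 k32 (by norm_num)
  generalize f 2 &&& 60 = a at *
  rw [← hf.lin_eq hk, e1, e2, e4', e8', e16', e32']
  exact lin_eich_aux' hva hk

end Iso6

theorem refl_iso {p : ℕ} (hp : p ∈ ns4) : Iso6 (refl p) :=
  ⟨fun _ hk => (refl_spec hp hk).1, fun _ hj _ hk => refl_xor hp hj hk,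
    fun _ hk => (refl_spec hp hk).2.2.1⟩

theorem Iso6.comp {f g : ℕ → ℕ} (hf : Iso6 f) (hg : Iso6 g) : Iso6 fun k => f (g k) :=
  ⟨fun k hk => hf.lt _ (hg.lt k hk),
    fun j hj k hk => by rw [hg.add j hj k hk, hf.add _ (hg.lt j hj) _ (hg.lt k hk)],
    fun k hk => (hf.pres _ (hg.lt k hk)).trans (hg.pres k hk)⟩

/-- The coded data of a centraliser with `C/Q` acting as an index two subgroup of the orthogonal group. -/
structure Frame (z : G) (Q : Subgroup G) (co : G → ℕ) (ac : G → ℕ → ℕ) : Prop where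
  ord : orderOf z = 2
  es : ES Q z
  cent : ∀ c : G, (∀ q ∈ Q, Commute c q) → c = 1 ∨ c = z
  norm : ∀ c : G, Commute c z → ∀ q ∈ Q, c * q * c⁻¹ ∈ Q
  card : Nat.card Q = 128
  co_lt : ∀ q ∈ Q, co q < 64
  co_mul : ∀ q ∈ Q, ∀ r ∈ Q, co (q * r) = co q ^^^ co r
  co_zero : ∀ q ∈ Q, co q = 0 → q = 1 ∨ q = z
  co_surj : ∀ k < 64, ∃ q ∈ Q, co q = k
  sq : ∀ q ∈ Q, q * q = pw z (qn (co q))
  conj : ∀ c, Commute c z → ∀ q ∈ Q, co (c * q * c⁻¹) = ac c (co q)
  faithful : ∀ c, Commute c z → (∀ k < 64, ac c k = k) → c ∈ Q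
  exists_pair : ∀ v < 64, ∀ w < 64, qn v = true → qn w = true →
    ∃ c, Commute c z ∧ ∀ k < 64, ac c k = pr (v, w) k
  not_refl : ∀ c, Commute c z → ∀ v < 64, qn v = true → ¬ ∀ k < 64, ac c k = refl v k

namespace Frame

variable {z : G} {Q : Subgroup G} {co : G → ℕ} {ac : G → ℕ → ℕ} (h : Frame z Q co ac)
include h

theorem co_one : co 1 = 0 := by
  have := h.co_mul 1 (one_mem Q) 1 (one_mem Q)
  rwa [one_mul, Nat.xor_self] at this

theorem co_inv {q : G} (hq : q ∈ Q) : co q⁻¹ = co q := by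
  have := h.co_mul q hq q⁻¹ (inv_mem hq)
  rw [mul_inv_cancel, h.co_one] at this
  exact (Nat.eq_of_xor_eq_zero this.symm).symm

theorem co_z : co z = 0 := by
  obtain ⟨q, hq, hq0⟩ := h.co_surj 12 (by norm_num)
  have e := h.co_mul q hq q hq
  rw [h.sq q hq, hq0, Nat.xor_self] at e
  exact e

theorem co_eq {q r : G} (hq : q ∈ Q) (hr : r ∈ Q) (e : co q = co r) : r = q ∨ r = q * z := by
  have h0 := h.co_mul q⁻¹ (inv_mem hq) r hr
  rw [h.co_inv hq, e, Nat.xor_self] at h0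
  rcases h.co_zero _ (mul_mem (inv_mem hq) hr) h0 with e1 | e1
  · exact Or.inl (inv_mul_eq_one.1 e1).symm
  · exact Or.inr (inv_mul_eq_iff_eq_mul.1 e1)

theorem co_conjQ {q r : G} (hq : q ∈ Q) (hr : r ∈ Q) : co (q * r * q⁻¹) = co r := by
  rw [h.co_mul _ (mul_mem hq hr) _ (inv_mem hq), h.co_mul q hq r hr, h.co_inv hq, Nat.xor_comm (co q),
    Nat.xor_assoc, Nat.xor_self, Nat.xor_zero]

theorem comm_Q {q r : G} (hq : q ∈ Q) (hr : r ∈ Q) : q * r * q⁻¹ = r * pw z (bn (co q) (co r)) := by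
  have h1 := h.sq _ (mul_mem hq hr)
  rw [h.co_mul q hq r hr] at h1
  have h2 := h.sq q hq
  have h3 := h.sq r hr
  have hzq : ∀ p ∈ Q, ∀ b, Commute p (pw z b) := fun p hp b => by
    cases b
    · exact Commute.one_right p
    · exact h.es.comm p hp
  have e : q * r * q⁻¹ * ((q * q) * r) = q * r * (q * r) := by group
  rw [h1, h2] at e
  calc q * r * q⁻¹ = (q * r * q⁻¹ * (pw z (qn (co q)) * r)) * r⁻¹ * (pw z (qn (co q)))⁻¹ := by group
    _ = pw z (qn (co q ^^^ co r)) * r⁻¹ * pw z (qn (co q)) := by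
      rw [e]
      congr 1
      cases qn (co q) <;> simp [pw, h.es.zinv]
    _ = r⁻¹ * (pw z (qn (co q ^^^ co r)) * pw z (qn (co q))) := by
      rw [← (hzq _ (inv_mem hr) _).eq, mul_assoc]
    _ = r * pw z (bn (co q) (co r)) := by
      have hi : r⁻¹ = r * pw z (qn (co r)) :=
        inv_eq_of_mul_eq_one_right (by rw [← mul_assoc, h3, pw_mul h.es.sq, Bool.xor_self]; rfl)
      rw [hi, mul_assoc, pw_mul h.es.sq, pw_mul h.es.sq, bn]
      congr 2
      cases qn (co q ^^^ co r) <;> cases qn (co q) <;> cases qn (co r) <;> rfl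

theorem commute_Q {q r : G} (hq : q ∈ Q) (hr : r ∈ Q) : Commute q r ↔ bn (co q) (co r) = false := by
  have e := h.comm_Q hq hr
  constructor
  · intro hc
    cases hb : bn (co q) (co r) with
    | false => rfl
    | true =>
      rw [hb, mul_inv_eq_iff_eq_mul.2 hc.eq] at e
      exact absurd (left_eq_mul.1 e) h.es.ne
  · intro hb
    rw [hb] at e
    exact mul_inv_eq_iff_eq_mul.1 (e.trans (mul_one r))

theorem commute_of_mem {q : G} (hq : q ∈ Q) : Commute q z := h.es.comm q hq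

theorem ac_lt {c : G} (hc : Commute c z) {k : ℕ} (hk : k < 64) : ac c k < 64 := by
  obtain ⟨q, hq, rfl⟩ := h.co_surj k hk
  rw [← h.conj c hc q hq]
  exact h.co_lt _ (h.norm c hc q hq)

theorem ac_mul {c d : G} (hc : Commute c z) (hd : Commute d z) {k : ℕ} (hk : k < 64) :
    ac (c * d) k = ac c (ac d k) := by
  obtain ⟨q, hq, rfl⟩ := h.co_surj k hk
  rw [← h.conj _ (hc.mul_left hd) q hq, ← h.conj d hd q hq, ← h.conj c hc _ (h.norm d hd q hq)]
  congr 1
  group

theorem ac_Q {c : G} (hc : c ∈ Q) {k : ℕ} (hk : k < 64) : ac c k = k := by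
  obtain ⟨q, hq, rfl⟩ := h.co_surj k hk
  rw [← h.conj c (h.es.comm c hc) q hq, h.co_conjQ hc hq]

theorem ac_inv {c : G} (hc : Commute c z) {k : ℕ} (hk : k < 64) : ac c⁻¹ (ac c k) = k := by
  rw [← h.ac_mul hc.inv_left hc hk, inv_mul_cancel, h.ac_Q (one_mem Q) hk]

theorem ac_inv' {c : G} (hc : Commute c z) {k : ℕ} (hk : k < 64) : ac c (ac c⁻¹ k) = k := by
  rw [← h.ac_mul hc hc.inv_left hk, mul_inv_cancel, h.ac_Q (one_mem Q) hk]

theorem ac_xor {c : G} (hc : Commute c z) {j k : ℕ} (hj : j < 64) (hk : k < 64) :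
    ac c (j ^^^ k) = ac c j ^^^ ac c k := by
  obtain ⟨q, hq, rfl⟩ := h.co_surj j hj
  obtain ⟨r, hr, rfl⟩ := h.co_surj k hk
  rw [← h.co_mul q hq r hr, ← h.conj c hc _ (mul_mem hq hr), ← h.conj c hc q hq, ← h.conj c hc r hr,
    ← h.co_mul _ (h.norm c hc q hq) _ (h.norm c hc r hr)]
  congr 1
  group

theorem ac_qn {c : G} (hc : Commute c z) {k : ℕ} (hk : k < 64) : qn (ac c k) = qn k := by
  obtain ⟨q, hq, rfl⟩ := h.co_surj k hk
  rw [← h.conj c hc q hq]
  have e := h.sq _ (h.norm c hc q hq)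
  have e2 : c * q * c⁻¹ * (c * q * c⁻¹) = pw z (qn (co q)) := by
    rw [← h.sq q hq, show c * q * c⁻¹ * (c * q * c⁻¹) = c * (q * q) * c⁻¹ by group, h.sq q hq]
    cases qn (co q)
    · simp [pw]
    · exact mul_inv_eq_iff_eq_mul.2 hc.eq
  rw [e2] at e
  cases h1 : qn (co (c * q * c⁻¹)) <;> cases h2 : qn (co q) <;> rw [h1, h2] at e <;>
    first | rfl | exact absurd e h.es.ne | exact absurd e.symm h.es.ne

theorem ac_bn {c : G} (hc : Commute c z) {j k : ℕ} (hj : j < 64) (hk : k < 64) :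
    bn (ac c j) (ac c k) = bn j k := by
  rw [bn, ← h.ac_xor hc hj hk, h.ac_qn hc (xor_lt hj hk), h.ac_qn hc hj, h.ac_qn hc hk]
  rfl

theorem iso {c : G} (hc : Commute c z) : Iso6 (ac c) :=
  ⟨fun _ hk => h.ac_lt hc hk, fun _ hj _ hk => h.ac_xor hc hj hk, fun _ hk => h.ac_qn hc hk⟩

end Frame

end Cfsg.Agent.Lib.SuzType52
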