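import Cfsg.Agent.Lib.SuzType52.Pair

/-!
# Suzuki type: squares and commutators in `(Q ∩ C(x))(P ∩ C(z))`

With the invariance under `C(z) ∩ C(x)`, the transvection with parameter `a` has a lift with square
`x ^ q(a)`, and its commutator with an element of parameter `v` is `(x z) ^ B(a, v)`.

Owner: helper52.
-/

set_option autoImplicit false

namespace Cfsg.Agent.Lib.SuzType52

/-- A functional on the small space by its values on the basis. -/
def fun4 (a b c d v : ℕ) : Bool :=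
  Nat.beq ((bif Nat.beq (v &&& 4) 4 then a else 0) ^^^
    (bif Nat.beq (v &&& 8) 8 then b else 0) ^^^ (bif Nat.beq (v &&& 16) 16 then c else 0) ^^^
    (bif Nat.beq (v &&& 32) 32 then d else 0)) 1

/-- `0` or `1`. -/
def bit01 (b : Bool) : ℕ := bif b then 1 else 0

theorem fun4_eq (φ : ℕ → Bool) (h : ∀ a ∈ v4, ∀ b ∈ v4, φ (a ^^^ b) = Bool.xor (φ a) (φ b)) :
    ∀ v ∈ v4, fun4 (bit01 (φ 4)) (bit01 (φ 8)) (bit01 (φ 16)) (bit01 (φ 32)) v = φ v := by
  have h0 : φ 0 = false := by simpa using h 0 (by decide) 0 (by decide)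
  have e12 : φ 12 = Bool.xor (φ 4) (φ 8) := h 4 (by decide) 8 (by decide)
  have e48 : φ 48 = Bool.xor (φ 16) (φ 32) := h 16 (by decide) 32 (by decide)
  have e20 : φ 20 = Bool.xor (φ 4) (φ 16) := h 4 (by decide) 16 (by decide)
  have e24 : φ 24 = Bool.xor (φ 8) (φ 16) := h 8 (by decide) 16 (by decide)
  have e28 : φ 28 = Bool.xor (φ 12) (φ 16) := h 12 (by decide) 16 (by decide)
  have e36 : φ 36 = Bool.xor (φ 4) (φ 32) := h 4 (by decide) 32 (by decide)
  have e40 : φ 40 = Bool.xor (φ 8) (φ 32) := h 8 (by decide) 32 (by decide)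
  have e44 : φ 44 = Bool.xor (φ 12) (φ 32) := h 12 (by decide) 32 (by decide)
  have e52 : φ 52 = Bool.xor (φ 4) (φ 48) := h 4 (by decide) 48 (by decide)
  have e56 : φ 56 = Bool.xor (φ 8) (φ 48) := h 8 (by decide) 48 (by decide)
  have e60 : φ 60 = Bool.xor (φ 12) (φ 48) := h 12 (by decide) 48 (by decide)
  intro v hv
  fin_cases hv <;> simp only [fun4, bit01, h0, e12, e48, e20, e24, e28, e36, e40, e44, e52, e56, e60] <;>
    cases φ 4 <;> cases φ 8 <;> cases φ 16 <;> cases φ 32 <;> rfl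

/-- An invariant functional. -/
theorem functional_cases (φ : ℕ → Bool) (h : ∀ a ∈ v4, ∀ b ∈ v4, φ (a ^^^ b) = Bool.xor (φ a) (φ b))
    (hinv : ∀ p ∈ pairs4, pr p 16 = 16 → ∀ v ∈ v4, φ (pr p v) = φ v) :
    (∀ v ∈ v4, φ v = false) ∨ ∀ v ∈ v4, φ v = bn 16 v := by
  have hm : ∀ b, bit01 b ∈ [0, 1] := fun b => by cases b <;> decide
  have key := List.all_eq_true.1 (List.all_eq_true.1 (List.all_eq_true.1 (List.all_eq_true.1
    functional_aux _ (hm (φ 4))) _ (hm (φ 8))) _ (hm (φ 16))) _ (hm (φ 32))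
  simp only [Bool.or_eq_true] at key
  rcases key with (k | k) | k
  · exfalso
    obtain ⟨p, hp, hp'⟩ := List.any_eq_true.1 k
    rw [Bool.and_eq_true] at hp'
    obtain ⟨v, hv, hv'⟩ := List.any_eq_true.1 hp'.2
    have e : fun4 (bit01 (φ 4)) (bit01 (φ 8)) (bit01 (φ 16)) (bit01 (φ 32)) (pr p v) =
        fun4 (bit01 (φ 4)) (bit01 (φ 8)) (bit01 (φ 16)) (bit01 (φ 32)) v := by
      rw [fun4_eq φ h v hv, fun4_eq φ h _ (pr_v4 hp hv), hinv p hp (Nat.eq_of_beq_eq_true hp'.1) v hv]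
    unfold fun4 at e
    rw [e] at hv'
    simp at hv'
  · refine Or.inl fun v hv => ?_
    have := beq_iff_eq.1 (List.all_eq_true.1 k v hv)
    rw [← fun4_eq φ h v hv]
    exact this
  · refine Or.inr fun v hv => ?_
    have := beq_iff_eq.1 (List.all_eq_true.1 k v hv)
    rw [← fun4_eq φ h v hv]
    exact this

variable {G : Type*} [Group G]

namespace Duo

variable {z : G} {Q : Subgroup G} {co : G → ℕ} {ac : G → ℕ → ℕ} {x n : G}
  (d : Duo z Q co ac x n)
include d

theorem pw_x_inj {i j : Bool} (e : pw x i = pw x j) : i = j := by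
  cases i <;> cases j <;> first | rfl | exact absurd e d.x_ne.1 | exact absurd e.symm d.x_ne.1

/-- The square of a lift depends on the parameter only, and is the value of the form. -/
theorem sq_act : ∀ a ∈ v4, ∀ u, InB Q n z u → Act ac u a → u * u = pw x (qn a) := by
  classical
  choose! L hL using d.lift
  set s : ℕ → Bool := fun a => qn (co (n⁻¹ * L a * n)) with hs
  have hwd : ∀ a ∈ v4, ∀ u, InB Q n z u → Act ac u a → u * u = pw x (s a) := by
    intro a ha u hu h
    obtain ⟨i, j, e⟩ := d.act_eq ha (hL a ha).1 hu (hL a ha).2 h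
    have hc := d.ee_comm (d.B_comm (hL a ha).1).1 (d.B_comm (hL a ha).1).2 i j
    rw [e, mul_assoc, ← mul_assoc (ee z x i j) (L a), ← hc.eq, mul_assoc (L a), d.ee_sq, mul_one,
      d.P_sq (hL a ha).1.1]
  have hval : ∀ a ∈ v4, ∀ u, InB Q n z u → Act ac u a → qn (co (n⁻¹ * u * n)) = s a :=
    fun a ha u hu h => d.pw_x_inj ((d.P_sq hu.1).symm.trans (hwd a ha u hu h))
  have hinv : ∀ p ∈ pairs4, ∀ a ∈ v4, s (pr p a) = s a := by
    intro p hp a ha
    obtain ⟨c, hc, hcx, hck⟩ := d.exists_prE hp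
    obtain ⟨h1, h2⟩ := d.act_conj hp hc hcx hck (hL a ha).1 ha (hL a ha).2
    refine d.pw_x_inj ?_
    rw [← hwd _ (pr_v4 hp ha) _ h1 h2,
      show c * L a * c⁻¹ * (c * L a * c⁻¹) = c * (L a * L a) * c⁻¹ by group,
      hwd a ha _ (hL a ha).1 (hL a ha).2]
    cases s a
    · simp [pw]
    · exact mul_inv_eq_iff_eq_mul.2 hcx.eq
  have hco : ∀ a ∈ v4, ∀ b ∈ v4, qn (co (n⁻¹ * L a * n) ^^^ co (n⁻¹ * L b * n)) = s (a ^^^ b) := by
    intro a ha b hb
    obtain ⟨h1, h2⟩ := d.act_mul (hL a ha).1 (hL b hb).1 ha hb (hL a ha).2 (hL b hb).2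
    rw [← d.fr.co_mul _ (hL a ha).1.1 _ (hL b hb).1.1, ← hval _ (v4_xor a ha b hb) _ h1 h2]
    congr 2
    group
  have hσ : s 4 = false := by
    have m4 : (4 : ℕ) ∈ v4 := by decide
    have m16 : (16 : ℕ) ∈ v4 := by decide
    have m32 : (32 : ℕ) ∈ v4 := by decide
    have hA : ∀ a ∈ v4, n⁻¹ * L a * n ∈ Q := fun a ha => (hL a ha).1.1
    have e3 := qn_three (d.fr.co_lt _ (hA 4 m4)) (d.fr.co_lt _ (hA 16 m16)) (d.fr.co_lt _ (hA 32 m32))
    obtain ⟨h1, h2⟩ := d.act_mul (hL 16 m16).1 (hL 32 m32).1 m16 m32 (hL 16 m16).2 (hL 32 m32).2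
    obtain ⟨h3, h4⟩ := d.act_mul (hL 4 m4).1 h1 m4 (by decide : (16 : ℕ) ^^^ 32 ∈ v4) (hL 4 m4).2 h2
    have e52 : qn (co (n⁻¹ * L 4 * n) ^^^ (co (n⁻¹ * L 16 * n) ^^^ co (n⁻¹ * L 32 * n))) = s 52 := by
      rw [← d.fr.co_mul _ (hA 16 m16) _ (hA 32 m32), ← d.fr.co_mul _ (hA 4 m4) _ (mul_mem (hA 16 m16) (hA 32 m32)),
        ← hval 52 (by decide) _ h3 h4]
      congr 2
      group
    rw [e52, hco 4 m4 16 m16, hco 4 m4 32 m32, hco 16 m16 32 m32] at e3
    have hns : ∀ b ∈ ns4, s b = s 16 := fun b hb => by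
      obtain ⟨p, hp, e⟩ := ns_trans b hb
      rw [← hinv p hp b (ns4_spec b hb).2.2, e]
    have r1 : s (4 ^^^ 16) = s 16 := hns 20 (by decide)
    have r2 : s (4 ^^^ 32) = s 16 := hns 36 (by decide)
    have r3 : s (16 ^^^ 32) = s 16 := hns 48 (by decide)
    have r4 : s 52 = s 16 := hns 52 (by decide)
    have r5 : s 32 = s 16 := hns 32 (by decide)
    rw [r1, r2, r3, r4] at e3
    change s 16 = Bool.xor (s 16) (Bool.xor (s 16) (Bool.xor (s 16) (Bool.xor (s 4)
      (Bool.xor (s 16) (s 32))))) at e3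
    rw [r5] at e3
    revert e3
    cases s 16 <;> cases s 4 <;> decide
  have hsing : ∀ a ∈ v4, a ≠ 0 → qn a = false → s a = false := fun a ha h0 hq => by
    obtain ⟨p, hp, e⟩ := sg_trans a ha h0 hq
    rw [← hinv p hp a ha, e, hσ]
  have hz : s 0 = false := by
    obtain ⟨i, j, e⟩ := d.act_zero (hL 0 (by decide)).1 (hL 0 (by decide)).2
    refine d.pw_x_inj ?_
    rw [← hwd 0 (by decide) _ (hL 0 (by decide)).1 (hL 0 (by decide)).2, e, d.ee_sq]
    rfl
  have hnu : ∀ a ∈ v4, qn a = true → s a = s 16 := fun a ha hq => by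
    obtain ⟨p, hp, e⟩ := ns_trans a (mem_ns4 a ha hq)
    rw [← hinv p hp a ha, e]
  have h16 : s 16 = true := by
    by_contra hne
    obtain ⟨u, v, hu, hv, huv⟩ := d.exists_noncomm
    refine huv ?_
    have h1 : ∀ w, InB Q n z w → w * w = 1 := fun w hw => by
      obtain ⟨a, ha, h⟩ := d.exists_act hw
      rw [hwd a ha w hw h]
      have hsa : s a = false := by
        cases hq : qn a with
        | false =>
          rcases eq_or_ne a 0 with rfl | h0
          · exact hz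
          · exact hsing a ha h0 hq
        | true => exact (hnu a ha hq).trans (Bool.eq_false_iff.2 hne)
      rw [hsa]
      rfl
    have h2 := h1 (u * v) ⟨d.P_mul hu.1 hv.1, hu.2.mul_left hv.2⟩
    show u * v = v * u
    rw [← inv_eq_of_mul_eq_one_right h2, mul_inv_rev, inv_eq_of_mul_eq_one_right (h1 u hu),
      inv_eq_of_mul_eq_one_right (h1 v hv)]
  intro a ha u hu h
  rw [hwd a ha u hu h]
  congr 1
  cases hq : qn a with
  | false =>
    rcases eq_or_ne a 0 with rfl | h0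
    · exact hz
    · exact hsing a ha h0 hq
  | true => rw [hnu a ha hq, h16]

theorem A_mul {r r' : G} (hr : InA Q co r) (hr' : InA Q co r') : InA Q co (r * r') :=
  ⟨mul_mem hr.1 hr'.1, by
    rw [d.fr.co_mul r hr.1 r' hr'.1]
    exact b1_xor (d.fr.co_lt r hr.1) (d.fr.co_lt r' hr'.1) hr.2 hr'.2⟩

theorem co_com {r u : G} {a : ℕ} (ha : a ∈ v4) (hr : InA Q co r) (hu : InB Q n z u) (h : Act ac u a) :
    co (com r u) = bif bn a (co r) then 1 else 0 := by
  have hlt := d.fr.co_lt r hr.1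
  have e1 : com r u = r * (u * r⁻¹ * u⁻¹) := by simp only [com]; group
  rw [e1, d.fr.co_mul r hr.1 _ (d.fr.norm u hu.2 _ (inv_mem hr.1)), d.fr.conj u hu.2 _ (inv_mem hr.1),
    d.fr.co_inv hr.1, h _ hlt, eich_trivial ha hlt hr.2]
  cases bn a (co r)
  · exact Nat.xor_self _
  · show co r ^^^ (co r ^^^ 1) = 1
    rw [← Nat.xor_assoc, Nat.xor_self, Nat.zero_xor]

theorem central_conj {g : G} (hx : Commute g x) (hz : Commute g z) (i j : Bool) :
    g * ee z x i j * g⁻¹ = ee z x i j :=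
  mul_inv_eq_iff_eq_mul.2 (d.ee_comm hx hz i j).eq

/-- The commutator of the two halves. -/
theorem com_act : ∀ a ∈ v4, ∀ u r, InB Q n z u → Act ac u a → InA Q co r →
    com r u = ee z x (bn a (co r)) (bn a (co r)) := by
  classical
  choose! L hL using d.lift
  choose! R hR using d.fr.co_surj
  have hRA : ∀ v ∈ v4, InA Q co (R v) := fun v hv =>
    ⟨(hR v (lt_of_mem_v4 v hv).1).1, by
      rw [(hR v (lt_of_mem_v4 v hv).1).2]; exact (lt_of_mem_v4 v hv).2.2⟩
  have hRc : ∀ v ∈ v4, co (R v) = v := fun v hv => (hR v (lt_of_mem_v4 v hv).1).2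
  set β : ℕ → ℕ → Bool := fun v a => decide (com (R v) (L a) = ee z x (bn a v) true) with hβ
  have hbase : ∀ v ∈ v4, ∀ a ∈ v4, com (R v) (L a) = ee z x (bn a v) (β v a) := by
    intro v hv a ha
    obtain ⟨i, j, e⟩ := d.com_mem (hRA v hv) (hL a ha).1
    have hc := d.co_com ha (hRA v hv) (hL a ha).1 (hL a ha).2
    rw [e, d.co_ee, hRc v hv] at hc
    have hi : i = bn a v := by
      revert hc
      cases i <;> cases bn a v <;> simp
    subst hi
    by_cases hj : com (R v) (L a) = ee z x (bn a v) true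
    · have hb : β v a = true := decide_eq_true hj
      rw [hb, hj]
    · have hb : β v a = false := decide_eq_false hj
      rw [hb, e]
      cases j
      · rfl
      · exact absurd e hj
  have hwd : ∀ v ∈ v4, ∀ a ∈ v4, ∀ u r, InB Q n z u → Act ac u a → InA Q co r → co r &&& 60 = v →
      com r u = ee z x (bn a v) (β v a) := by
    intro v hv a ha u r hu h hr hrv
    obtain ⟨i, j, eu⟩ := d.act_eq ha (hL a ha).1 hu (hL a ha).2 h
    have hr' : ∃ i' j', r = R v * ee z x i' j' := by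
      have hm : (R v)⁻¹ * r ∈ Q := mul_mem (inv_mem (hRA v hv).1) hr.1
      obtain ⟨i', j', e⟩ := d.exists_ee hm (by
        rw [d.fr.co_mul _ (inv_mem (hRA v hv).1) _ hr.1, d.fr.co_inv (hRA v hv).1, hRc v hv]
        rcases mask_cases (d.fr.co_lt r hr.1) hr.2 with e | e <;> rw [hrv] at e <;> rw [e]
        · exact Or.inl (Nat.xor_self v)
        · exact Or.inr (by rw [← Nat.xor_assoc, Nat.xor_self, Nat.zero_xor]))
      exact ⟨i', j', inv_mul_eq_iff_eq_mul.1 e⟩
    obtain ⟨i', j', er⟩ := hr'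
    have c1 := d.central_conj (d.A_comm (hRA v hv)).1 (d.A_comm (hRA v hv)).2
    have c2 := d.central_conj (d.B_comm (hL a ha).1).1 (d.B_comm (hL a ha).1).2
    have z1 : com (ee z x i' j') (L a * ee z x i j) = 1 := by
      have hc : Commute (ee z x i' j') (L a * ee z x i j) := by
        refine ((d.ee_comm (d.B_comm (hL a ha).1).1 (d.B_comm (hL a ha).1).2 i' j').symm).mul_right ?_
        show ee z x i' j' * ee z x i j = ee z x i j * ee z x i' j'
        rw [d.ee_mul, d.ee_mul, Bool.xor_comm i, Bool.xor_comm j]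
      simp only [com]
      rw [hc.eq, mul_inv_cancel_right, mul_inv_cancel]
    have z2 : com (R v) (ee z x i j) = 1 := by
      simp only [com]
      rw [c1, mul_inv_cancel]
    rw [eu, er, com_mul_left, z1, com_mul_right, z2]
    simp only [mul_one, mul_inv_cancel, hbase v hv a ha, one_mul]
  have hadd : ∀ v ∈ v4, ∀ v' ∈ v4, ∀ a ∈ v4, β (v ^^^ v') a = Bool.xor (β v a) (β v' a) := by
    intro v hv v' hv' a ha
    have hA := d.A_mul (hRA v hv) (hRA v' hv')
    have e := hwd _ (v4_xor v hv v' hv') a ha (L a) _ (hL a ha).1 (hL a ha).2 hA (by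
      rw [d.fr.co_mul _ (hRA v hv).1 _ (hRA v' hv').1, hRc v hv, hRc v' hv']
      exact (lt_of_mem_v4 _ (v4_xor v hv v' hv')).2.1)
    rw [com_mul_left, hbase v hv a ha, hbase v' hv' a ha,
      d.central_conj (d.A_comm (hRA v hv)).1 (d.A_comm (hRA v hv)).2, d.ee_mul] at e
    rw [← (d.ee_inj e).2, Bool.xor_comm]
  have haddr : ∀ v ∈ v4, ∀ a ∈ v4, ∀ b ∈ v4, β v (a ^^^ b) = Bool.xor (β v a) (β v b) := by
    intro v hv a ha b hb
    obtain ⟨h1, h2⟩ := d.act_mul (hL a ha).1 (hL b hb).1 ha hb (hL a ha).2 (hL b hb).2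
    have e := hwd v hv _ (v4_xor a ha b hb) _ (R v) h1 h2 (hRA v hv)
      (by rw [hRc v hv]; exact (lt_of_mem_v4 v hv).2.1)
    rw [com_mul_right, hbase v hv a ha, hbase v hv b hb,
      d.central_conj (d.B_comm (hL a ha).1).1 (d.B_comm (hL a ha).1).2, d.ee_mul] at e
    exact (d.ee_inj e).2.symm
  have hinv : ∀ p ∈ pairs4, ∀ v ∈ v4, ∀ a ∈ v4, β (pr p v) (pr p a) = β v a := by
    intro p hp v hv a ha
    obtain ⟨c, hc, hcx, hck⟩ := d.exists_prE hp
    obtain ⟨h1, h2⟩ := d.act_conj hp hc hcx hck (hL a ha).1 ha (hL a ha).2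
    have hm := d.fr.norm c hc _ (hRA v hv).1
    have hcv : co (c * R v * c⁻¹) = pr p v := by
      rw [d.fr.conj c hc _ (hRA v hv).1, hRc v hv, hck v (lt_of_mem_v4 v hv).1]
    have e := hwd _ (pr_v4 hp hv) _ (pr_v4 hp ha) _ _ h1 h2
      (show InA Q co (c * R v * c⁻¹) from
        ⟨hm, by rw [hcv]; exact (lt_of_mem_v4 _ (pr_v4 hp hv)).2.2⟩)
      (by rw [hcv]; exact (lt_of_mem_v4 _ (pr_v4 hp hv)).2.1)
    rw [com_conj, hbase v hv a ha, d.central_conj hcx hc] at e
    exact (d.ee_inj e).2.symm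
  have h16 : (16 : ℕ) ∈ v4 := by decide
  have hbn : ∀ p ∈ pairs4, ∀ a ∈ v4, ∀ v ∈ v4, bn (pr p a) (pr p v) = bn a v := fun p hp a ha v hv =>
    ((refl_iso (mem_pairs4 hp).1).comp (refl_iso (mem_pairs4 hp).2)).bn_eq
      (lt_of_mem_v4 a ha).1 (lt_of_mem_v4 v hv).1
  rcases functional_cases (fun v => β v 16) (fun a ha b hb => hadd a ha b hb 16 h16)
      (fun p hp e v hv => by
        have := hinv p hp v hv 16 h16
        rwa [e] at this) with h0 | h0
  · exfalso
    obtain ⟨u, hu, h⟩ := d.lift 16 h16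
    obtain ⟨r, hr, hrc⟩ := d.fr.co_surj 32 (by norm_num)
    have hrA : InA Q co r := ⟨hr, by rw [hrc]; rfl⟩
    have e1 : com r u = ee z x true false := by
      rw [hwd 32 (by decide) 16 h16 u r hu h hrA (by rw [hrc]; rfl), h0 32 (by decide)]
      rfl
    have hz0 : ∀ a ∈ v4, ∀ v ∈ v4, β v a = false := by
      intro a ha v hv
      have hns : ∀ b ∈ ns4, β v b = false := fun b hb => by
        obtain ⟨p, hp, e⟩ := ns_trans b hb
        rw [← hinv p hp v hv b (ns4_spec b hb).2.2, e]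
        exact h0 _ (pr_v4 hp hv)
      cases hq : qn a with
      | true => exact hns a (mem_ns4 a ha hq)
      | false =>
        rcases sing_split a ha hq with rfl | ⟨b, hb, c, hc, rfl⟩
        · have := haddr v hv 0 ha 0 ha
          revert this
          cases β v 0 <;> simp
        · rw [haddr v hv b (ns4_spec b hb).2.2 c (ns4_spec c hc).2.2, hns b hb, hns c hc]
          rfl
    have hu' := d.A_of_B hu
    have hr' := d.B_of_A hrA
    obtain ⟨b, hb, hb'⟩ := d.exists_act hr'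
    have e2 := hwd _ (mem_v4 (d.fr.co_lt _ hu'.1)) b hb _ _ hr' hb' hu' rfl
    rw [hz0 b hb _ (mem_v4 (d.fr.co_lt _ hu'.1))] at e2
    have e3 : com (n * r * n⁻¹) (n * u * n⁻¹) = ee z x false true := by
      rw [com_conj, e1]
      show n * (x * 1) * n⁻¹ = 1 * z
      rw [mul_one, one_mul, d.nx]
    rw [← com_inv, e3, inv_eq_of_mul_eq_one_right (d.ee_sq false true)] at e2
    exact Bool.noConfusion (d.ee_inj e2).2
  intro a ha u r hu h hr
  have hv := mem_v4 (d.fr.co_lt r hr.1)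
  have hbm : bn a (co r &&& 60) = bn a (co r) := bn_mask ha (d.fr.co_lt r hr.1) hr.2
  have key : β (co r &&& 60) a = bn a (co r &&& 60) := by
    have hns : ∀ b ∈ ns4, ∀ v ∈ v4, β v b = bn b v := fun b hb v hv => by
      obtain ⟨p, hp, e⟩ := ns_trans b hb
      have hb4 := (ns4_spec b hb).2.2
      rw [← hinv p hp v hv b hb4, ← hbn p hp b hb4 v hv, e]
      exact h0 _ (pr_v4 hp hv)
    generalize co r &&& 60 = v at hv ⊢
    cases hq : qn a with
    | true => exact hns a (mem_ns4 a ha hq) v hv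
    | false =>
      rcases sing_split a ha hq with rfl | ⟨b, hb, c, hc, rfl⟩
      · have e := haddr v hv 0 ha 0 ha
        have e0 : bn 0 v = false := by
          fin_cases hv <;> rfl
        rw [e0]
        revert e
        cases β v 0 <;> simp
      · have hb4 := (ns4_spec b hb).2.2
        have hc4 := (ns4_spec c hc).2.2
        rw [haddr v hv b hb4 c hc4, hns b hb v hv, hns c hc v hv, bn_comm (b ^^^ c),
          bn_add (lt_of_mem_v4 v hv).1 (lt_of_mem_v4 b hb4).1 (lt_of_mem_v4 c hc4).1, bn_comm v b,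
          bn_comm v c]
  rw [hwd _ hv a ha u r hu h hr rfl, key, hbm]

end Duo

end Cfsg.Agent.Lib.SuzType52
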